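import Cfsg.Agent.Sp4Geo.Field

/-!
The extension field clause for `Sp(4, 2^k)` (helper98).
-/

set_option autoImplicit false

namespace Cfsg.Agent.Sp4Geo

open Matrix Cfsg.Agent.MaxSub

variable {ι : Type} [Fintype ι] [DecidableEq ι] {F : Type*} [Field F] [CharP F 2] [Finite F]
variable {f : (ι → F) → (ι → F) → F} {K : Subalgebra F (Matrix ι ι F)}

theorem exists_quadGen [Nonempty ι] (hK : Geo.IsFieldSubalgebra 2 K)
    (hsa : Geo.IsSelfAdjointFor f K) (halt : ∀ k ∈ K, ∀ v, f (k *ᵥ v) v = 0) :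
    ∃ w τ ν, QuadGen f w τ ν ∧ w ∈ K ∧
      ∀ k ∈ K, ∃ a b : F, k = a • (1 : Matrix ι ι F) + b • w := by
  obtain ⟨w, hwK, hw⟩ : ∃ w ∈ K, ∀ a : F, a • (1 : Matrix ι ι F) ≠ w := by
    by_contra hc
    push Not at hc
    have h1 : Module.finrank F K ≤ 1 := finrank_le_one ⟨1, one_mem K⟩ fun k => by
      obtain ⟨a, ha⟩ := hc k.1 k.2
      exact ⟨a, Subtype.ext ha⟩
    rw [hK.finrank_eq] at h1
    omega
  have hli : LinearIndependent F ![(⟨1, one_mem K⟩ : K), ⟨w, hwK⟩] := by
    rw [LinearIndependent.pair_iff' (fun h => one_ne_zero (congrArg Subtype.val h))]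
    intro a ha
    exact hw a (congrArg Subtype.val ha)
  have hspan : ∀ k ∈ K, ∃ a b : F, k = a • (1 : Matrix ι ι F) + b • w := by
    intro k hk
    have htop := hli.span_eq_top_of_card_eq_finrank (by simp [hK.finrank_eq])
    rw [Matrix.range_cons, Matrix.range_cons, Matrix.range_empty, Set.union_empty,
      Set.singleton_union] at htop
    obtain ⟨a, b, hab⟩ := Submodule.mem_span_pair.mp
      (show (⟨k, hk⟩ : K) ∈ Submodule.span F _ from htop ▸ Submodule.mem_top)
    exact ⟨a, b, (congrArg Subtype.val hab).symm⟩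
  obtain ⟨ν, τ, hsq⟩ := hspan (w * w) (mul_mem hwK hwK)
  refine ⟨w, τ, ν, ⟨fun x => ?_, fun t ht => ?_, hsa w hwK, halt w hwK⟩, hwK, hspan⟩
  · rw [mulVec_mulVec, hsq, add_mulVec, smul_mulVec, smul_mulVec, one_mulVec, add_comm]
  -- a root would give a zero divisor
  set P := w + t • (1 : Matrix ι ι F) with hP
  set Q := w + (t + τ) • (1 : Matrix ι ι F) with hQ
  have hsm : ∀ a : F, a • (1 : Matrix ι ι F) ∈ K := fun a => K.smul_mem (one_mem K) a
  have hPK : P ∈ K := add_mem hwK (hsm t)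
  have hP0 : P ≠ 0 := fun h => hw (-t) (by rw [neg_smul, ← eq_neg_of_add_eq_zero_left h])
  have hQ0 : Q ≠ 0 := fun h => hw (-(t + τ)) (by rw [neg_smul, ← eq_neg_of_add_eq_zero_left h])
  have hPQ : P * Q = 0 := by
    have h2 : (2 : F) = 0 := CharTwo.two_eq_zero
    rw [hP, hQ, add_mul, mul_add, mul_add, Matrix.smul_mul, Matrix.smul_mul, Matrix.mul_smul,
      one_mul, one_mul, mul_one, smul_smul, hsq]
    ext i j
    simp only [Matrix.add_apply, Matrix.smul_apply, smul_eq_mul, Matrix.zero_apply]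
    linear_combination (1 : Matrix ι ι F) i j * ht + (w i j * τ + w i j * t) * h2
  obtain ⟨y, -, hy⟩ := hK.inv P hPK hP0
  have hQK : Q ∈ K := add_mem hwK (hsm _)
  exact hQ0 (by
    calc Q = 1 * Q := (one_mul Q).symm
    _ = y * P * Q := by
      rw [mul_eq_one_comm.mp hy]
    _ = 0 := by rw [mul_assoc, hPQ, mul_zero])

/-- The normaliser of the field is maximal. -/
theorem field_maximal (hf : Geo.IsSymplecticForm f) (hcard : Fintype.card ι = 4)
    (h4 : 4 ≤ Nat.card F) (hK : Geo.IsFieldSubalgebra 2 K) (hsa : Geo.IsSelfAdjointFor f K)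
    (halt : ∀ k ∈ K, ∀ v, f (k *ᵥ v) v = 0) :
    Geo.IsMaximalIn (isom f) (Geo.subalgebraNormalizer K ⊓ isom f) := by
  haveI : Nonempty ι := Fintype.card_pos_iff.mp (by omega)
  obtain ⟨w, τ, ν, hw, hwK, hspan⟩ := exists_quadGen hK hsa halt
  have hkline : ∀ k ∈ K, ∀ x, k *ᵥ x ∈ kLine w x := by
    intro k hk x
    obtain ⟨a, b, rfl⟩ := hspan k hk
    rw [add_mulVec, smul_mulVec, smul_mulVec, one_mulVec]
    exact Submodule.mem_span_pair.mpr ⟨a, b, rfl⟩
  have hlineK : ∀ x y, y ∈ kLine w x → ∃ k ∈ K, k *ᵥ x = y := by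
    intro x y hy
    obtain ⟨a, b, rfl⟩ := Submodule.mem_span_pair.mp hy
    exact ⟨a • (1 : Matrix ι ι F) + b • w, add_mem (K.smul_mem (one_mem K) a) (K.smul_mem hwK b),
      by rw [add_mulVec, smul_mulVec, smul_mulVec, one_mulVec]⟩
  have hUmem : ∀ v s t, kU f w τ ν v s t ∈ Geo.subalgebraNormalizer K ⊓ isom f := by
    intro v s t
    refine ⟨fun k => ?_, kU_mem_isom hf hw v s t⟩
    set g := kU f w τ ν v s t with hg
    have hcw : (g : Matrix ι ι F) * w = w * (g : Matrix ι ι F) := by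
      refine Matrix.ext_of_mulVec_single fun i => ?_
      rw [← mulVec_mulVec, ← mulVec_mulVec, hg, kU_comm hf hw]
    have hc : ∀ k ∈ K, (g : Matrix ι ι F) * k * ((g⁻¹ : GL ι F) : Matrix ι ι F) = k := by
      intro k hk
      obtain ⟨a, b, rfl⟩ := hspan k hk
      rw [mul_add, Matrix.mul_smul, Matrix.mul_smul, mul_one, hcw, add_mul, Matrix.smul_mul,
        Matrix.smul_mul, mul_assoc w, ← Units.val_mul, mul_inv_cancel, Units.val_one, mul_one]
    refine ⟨fun hk => (hc k hk).symm ▸ hk, fun hk => ?_⟩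
    have h1 := hc _ hk
    rw [Units.mul_left_inj, Units.mul_right_inj] at h1
    exact h1 ▸ hk
  refine isMaximalIn_of inf_le_right ?_ fun M hHM hMK g hg hgH => ?_
  · -- an isometry outside the normaliser
    obtain ⟨v, hv⟩ : ∃ v : ι → F, v ≠ 0 := exists_ne 0
    obtain ⟨y, hy⟩ : ∃ y, f y v = 1 ∧ f (w *ᵥ y) v = 0 := by
      -- prescribed values on the independent pair `v`, `w v`
      obtain ⟨u, hu⟩ := exists_rep hf.bilinear hf.nondegenerate (Pi.single (Classical.arbitrary ι) 1)
      obtain ⟨z, hz⟩ := (hf.nondegenerate v hv).1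
      have hzK : ∃ b : F, f (w *ᵥ z) v = b := ⟨_, rfl⟩
      clear u hu hzK
      set φ := f z v
      set ψ := f (w *ᵥ z) v
      -- y = a z + b w z
      have hD : τ * φ * ψ + ψ ^ 2 + ν * φ ^ 2 ≠ 0 := fun h => hw.irred (ψ / φ) (by
        field_simp
        linear_combination h)
      set D := τ * φ * ψ + ψ ^ 2 + ν * φ ^ 2 with hDd
      refine ⟨((τ * ψ + ν * φ) / D) • z + (ψ / D) • (w *ᵥ z), ?_, ?_⟩
      · rw [hf.bilinear.add_left, hf.bilinear.smul_left, hf.bilinear.smul_left]
        field_simp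
        simp only [hDd, φ, ψ]
        ring
      · rw [mulVec_add, mulVec_smul, mulVec_smul, hw.sq, hf.bilinear.add_left,
          hf.bilinear.smul_left, hf.bilinear.smul_left, hf.bilinear.add_left,
          hf.bilinear.smul_left, hf.bilinear.smul_left]
        have h2 : (2 : F) = 0 := CharTwo.two_eq_zero
        field_simp
        ring_nf
        simp only [φ, ψ]
        ring_nf
        simp [h2]
    refine ⟨st f v 1, st_mem_isom hf v 1, fun hmem => ?_⟩
    have hC := (hmem.1 w).mp hwK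
    have h1 := hkline _ hC ((st f v 1 : Matrix ι ι F) *ᵥ y)
    rw [← mulVec_mulVec, inv_mulVec_mulVec, ← mulVec_mulVec, st_mulVec hf v (w *ᵥ y),
      hy.2, mul_zero, zero_smul, add_zero, st_mulVec hf, hy.1, one_mul, one_smul] at h1
    -- `w y` lies on the lines of `y` and of `y + v`
    obtain ⟨k, hk, hky⟩ := hlineK _ _ h1
    have hk0 : k ≠ 0 := by
      intro h0
      rw [h0, zero_mulVec] at hky
      have := hw.sq y
      rw [← hky, mulVec_zero, smul_zero, zero_add, eq_comm, smul_eq_zero] at this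
      rcases this with h | h
      · exact hw.irred 0 (by simp [h])
      · rw [h, form_zero_left hf.bilinear] at hy
        exact zero_ne_one hy.1
    obtain ⟨k', hk'K, hk'⟩ := hK.inv k hk hk0
    have h2 : y + v ∈ kLine w y := by
      have : (k' * w) *ᵥ y = y + v := by
        rw [← mulVec_mulVec, ← hky, mulVec_mulVec, mul_eq_one_comm.mp hk', one_mulVec]
      exact this ▸ hkline _ (mul_mem hk'K hwK) y
    have h3 : v ∈ kLine w y := by simpa using sub_mem h2 (self_mem_kLine hf hw y)
    obtain ⟨a, b, rfl⟩ := Submodule.mem_span_pair.mp h3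
    have h4' := hy.1
    rw [hf.bilinear.add_right, hf.bilinear.smul_right, hf.bilinear.smul_right, hf.alternating,
      form_v_wv hf hw] at h4'
    simp at h4'
  · have hgi := hMK hg
    have hUM : ∀ v s t, kU f w τ ν v s t ∈ M := fun v s t => hHM (hUmem v s t)
    by_contra hcon
    -- every element of `M` maps field lines to field lines
    have hline : ∀ h ∈ M, ∀ x, x ≠ 0 →
        (h : Matrix ι ι F) *ᵥ (w *ᵥ x) ∈ kLine w ((h : Matrix ι ι F) *ᵥ x) := by
      intro h hh x hx
      obtain ⟨k, hk, hki, hkc, hkx⟩ := exists_kU_move hf hw hUM (mulVec_ne_zero h hx) hx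
      by_contra hout
      refine hcon (full_of_move hf hw hcard h4 hUM (mul_mem hk hh) (mul_mem hki (hMK hh)) hx
        (by rw [Units.val_mul, ← mulVec_mulVec, hkx]) fun hmem => hout ?_)
      rw [Units.val_mul, ← mulVec_mulVec] at hmem
      obtain ⟨a, b, hab⟩ := Submodule.mem_span_pair.mp hmem
      refine Submodule.mem_span_pair.mpr ⟨a, b, mulVec_injective k ?_⟩
      show _ *ᵥ _ = _ *ᵥ _
      rw [mulVec_add, mulVec_smul, mulVec_smul, hkc, hkx, hab]
    -- conjugates of `w` lie in `K`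
    have hconj : ∀ h ∈ M, (h : Matrix ι ι F) * w * ((h⁻¹ : GL ι F) : Matrix ι ι F) ∈ K := by
      intro h hh
      set C := (h : Matrix ι ι F) * w * ((h⁻¹ : GL ι F) : Matrix ι ι F) with hC
      have hCy : ∀ y, C *ᵥ y ∈ kLine w y := by
        intro y
        rw [hC, ← mulVec_mulVec, ← mulVec_mulVec]
        rcases eq_or_ne y 0 with rfl | hy0
        · simp
        · have := hline h hh _ (mulVec_ne_zero h⁻¹ hy0)
          rwa [mulVec_inv_mulVec] at this
      obtain ⟨v, hv⟩ : ∃ v : ι → F, v ≠ 0 := exists_ne 0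
      obtain ⟨k0, hk0, hk0v⟩ := hlineK _ _ (hCy v)
      have hDy : ∀ y, y ∉ kLine w v → C *ᵥ y = k0 *ᵥ y := by
        intro y hy
        obtain ⟨k1, hk1, hk1y⟩ := hlineK _ _ (hCy y)
        obtain ⟨k2, hk2, hk2y⟩ := hlineK _ _ (hCy (y + v))
        rw [mulVec_add C, ← hk1y, ← hk0v, mulVec_add] at hk2y
        have e : (k1 - k2) *ᵥ y = (k2 - k0) *ᵥ v := by
          rw [sub_mulVec, sub_mulVec]
          linear_combination (norm := module) -hk2y
        by_cases hne : k1 - k2 = 0
        · have : k2 - k0 = 0 := by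
            by_contra hne2
            obtain ⟨k', -, hk'⟩ := hK.inv _ (sub_mem hk2 hk0) hne2
            rw [hne, zero_mulVec] at e
            exact hv (by rw [← one_mulVec v, ← mul_eq_one_comm.mp hk', ← mulVec_mulVec, ← e,
              mulVec_zero])
          rw [← hk1y, sub_eq_zero.mp hne, sub_eq_zero.mp this]
        · obtain ⟨k', hk'K, hk'⟩ := hK.inv _ (sub_mem hk1 hk2) hne
          refine absurd ?_ hy
          have : (k' * (k2 - k0)) *ᵥ v = y := by
            rw [← mulVec_mulVec, ← e, mulVec_mulVec, mul_eq_one_comm.mp hk', one_mulVec]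
          exact this ▸ hkline _ (mul_mem hk'K (sub_mem hk2 hk0)) v
      suffices C = k0 from this ▸ hk0
      refine Matrix.ext_of_mulVec_single fun i => ?_
      set y := (Pi.single i 1 : ι → F)
      by_cases hy : y ∈ kLine w v
      · obtain ⟨u, hu⟩ : ∃ u, u ∉ kLine w v := by
          by_contra hc
          push Not at hc
          have h1 := kLine_eq_orth hf hw hcard h4 hv
          obtain ⟨z, hz⟩ := (hf.nondegenerate v hv).1
          exact hz (mem_orth.mp (h1.symm ▸ hc z) v (self_mem_kLine hf hw v))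
        have huy : y + u ∉ kLine w v := fun h => hu (by simpa using sub_mem h hy)
        have h1 := hDy _ huy
        rw [mulVec_add, mulVec_add, hDy u hu] at h1
        exact add_right_cancel h1
      · exact hDy y hy
    have hkey : ∀ h ∈ M, ∀ k ∈ K,
        (h : Matrix ι ι F) * k * ((h⁻¹ : GL ι F) : Matrix ι ι F) ∈ K := by
      intro h hh k hk
      obtain ⟨a, b, rfl⟩ := hspan k hk
      rw [mul_add, Matrix.mul_smul, Matrix.mul_smul, mul_one, add_mul, Matrix.smul_mul,
        Matrix.smul_mul, ← Units.val_mul, mul_inv_cancel, Units.val_one]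
      exact add_mem (K.smul_mem (one_mem K) a) (K.smul_mem (hconj h hh) b)
    refine hgH ⟨fun k => ⟨hkey g hg k, fun hk => ?_⟩, hgi⟩
    have := hkey g⁻¹ (inv_mem hg) _ hk
    rwa [inv_inv, ← mul_assoc, ← mul_assoc, ← Units.val_mul, inv_mul_cancel, Units.val_one,
      one_mul, mul_assoc, ← Units.val_mul, inv_mul_cancel, Units.val_one, mul_one] at this

end Cfsg.Agent.Sp4Geo
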