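import Cfsg.Agent.S5652
import Cfsg.Agent.MaxSub.Orth

/-!
The orthogonal groups are maximal in `Sp(4, 2^k)`: the argument of S5652 with a vector lemma
valid in dimension four (helper98).
-/

set_option autoImplicit false

namespace Cfsg.Agent.Sp4Geo

open Matrix Cfsg.Agent.MaxSub Cfsg.Agent.S5652

variable {F : Type*} [Field F] {Q : (Fin 2 ⊕ Fin 2 → F) → F}
variable (hQ : Geo.IsNondegenerateQuadraticForm Q)
  (hpol : ∀ u v, QuadraticMap.polar Q u v = (sympForm 2 F) u v)
include hQ hpol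

/-- A vector orthogonal to two vectors with non-zero pairing on which `Q` does not vanish. -/
theorem exists_orth_aniso [Finite F] [CharP F 2] {x y : Fin 2 ⊕ Fin 2 → F}
    (hxy : sympForm 2 F x y ≠ 0) :
    ∃ u, sympForm 2 F x u = 0 ∧ sympForm 2 F y u = 0 ∧ Q u ≠ 0 := by
  have hf := isSymplecticForm_sympForm (F := F) 2
  by_contra hc
  push Not at hc
  let L : (Fin 2 ⊕ Fin 2 → F) →ₗ[F] (Fin 2 → F) :=
    LinearMap.pi ![rmap hf.bilinear x, rmap hf.bilinear y]
  have hL : ∀ u ∈ LinearMap.ker L, sympForm 2 F x u = 0 ∧ sympForm 2 F y u = 0 := fun u hu =>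
    ⟨congrFun (LinearMap.mem_ker.mp hu) 0, congrFun (LinearMap.mem_ker.mp hu) 1⟩
  have hiso : ∀ u ∈ LinearMap.ker L, ∀ w ∈ LinearMap.ker L, sympForm 2 F u w = 0 := by
    intro u hu w hw
    have h := Q_add hQ hpol u w
    rw [hc u (hL u hu).1 (hL u hu).2, hc w (hL w hw).1 (hL w hw).2,
      hc _ (hL _ (add_mem hu hw)).1 (hL _ (add_mem hu hw)).2] at h
    simpa using h.symm
  have hdim : 0 < Module.finrank F (LinearMap.ker L) := by
    have h1 := LinearMap.finrank_range_add_finrank_ker L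
    have h2 := Submodule.finrank_le (LinearMap.range L)
    simp at h1 h2
    omega
  obtain ⟨u, hu, hu0⟩ := (LinearMap.ker L).ne_bot_iff.mp fun h => by
    rw [h, finrank_bot] at hdim; omega
  -- `u` is orthogonal to everything
  obtain ⟨z, hz⟩ := (hf.nondegenerate u hu0).2
  have hux : sympForm 2 F u x = 0 := by rw [hf.skew, (hL u hu).1, neg_zero]
  have huy : sympForm 2 F u y = 0 := by rw [hf.skew, (hL u hu).2, neg_zero]
  have hyx : sympForm 2 F y x = -sympForm 2 F x y := hf.skew y x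
  set z' := z - (sympForm 2 F x z / sympForm 2 F x y) • y -
    (sympForm 2 F y z / sympForm 2 F y x) • x with hz'
  have hmem : z' ∈ LinearMap.ker L := by
    rw [LinearMap.mem_ker]
    funext i
    fin_cases i
    · show sympForm 2 F x z' = 0
      rw [hz', form_sub_right hf.bilinear, form_sub_right hf.bilinear, hf.bilinear.smul_right,
        hf.bilinear.smul_right, hf.alternating, div_mul_cancel₀ _ hxy]
      ring
    · show sympForm 2 F y z' = 0
      rw [hz', form_sub_right hf.bilinear, form_sub_right hf.bilinear, hf.bilinear.smul_right,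
        hf.bilinear.smul_right, hf.alternating, div_mul_cancel₀ _ (by rw [hyx]; simpa using hxy)]
      ring
  have := hiso u hu z' hmem
  rw [hz', form_sub_right hf.bilinear, form_sub_right hf.bilinear, hf.bilinear.smul_right,
    hf.bilinear.smul_right, hux, huy, mul_zero, mul_zero, sub_zero, sub_zero] at this
  exact hz this

/-- A vector with prescribed value of `Q` and of one functional, not orthogonal to `a`. -/
theorem exists_vector [Finite F] [CharP F 2] (h4 : 4 ≤ Nat.card F) {v a : Fin 2 ⊕ Fin 2 → F}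
    (hv : v ≠ 0) (ha : a ≠ 0) {s : F} (hs : s ≠ 0) (γ : F) :
    ∃ z, (sympForm 2 F) v z = s ∧ (sympForm 2 F) a z ≠ 0 ∧ Q z = γ := by
  have hf := isSymplecticForm_sympForm (F := F) 2
  haveI := Fact.mk Nat.prime_two
  have hsqrt : ∀ x : F, ∃ c, c ^ 2 = x := fun x => by
    obtain ⟨c, hc⟩ := (bijective_frobenius F 2).2 x
    exact ⟨c, by rw [← hc, frobenius_def]⟩
  -- adjusting the value of `Q` by an orthogonal anisotropic vector
  have adjust : ∀ z₀, sympForm 2 F v z₀ = s → sympForm 2 F a z₀ ≠ 0 →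
      (∀ u, sympForm 2 F v u = 0 → sympForm 2 F z₀ u = 0 → sympForm 2 F a u = 0) →
      ∃ z, (sympForm 2 F) v z = s ∧ (sympForm 2 F) a z ≠ 0 ∧ Q z = γ := by
    intro z₀ h1 h2 h3
    obtain ⟨u, hu1, hu2, hu3⟩ := exists_orth_aniso hQ hpol (x := v) (y := z₀) (h1 ▸ hs)
    obtain ⟨c, hc⟩ := hsqrt ((γ - Q z₀) / Q u)
    refine ⟨z₀ + c • u, ?_, ?_, ?_⟩
    · rw [hf.bilinear.add_right, hf.bilinear.smul_right, hu1, h1, mul_zero, add_zero]
    · rw [hf.bilinear.add_right, hf.bilinear.smul_right, h3 u hu1 hu2, mul_zero, add_zero]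
      exact h2
    · rw [Q_add hQ hpol, hQ.smul, hf.bilinear.smul_right, hu2, hc, div_mul_cancel₀ _ hu3]
      ring
  obtain ⟨y₀, hy₀⟩ := (hf.nondegenerate v hv).2
  set y := (sympForm 2 F v y₀)⁻¹ • y₀ with hy
  have hy1 : sympForm 2 F v y = 1 := by
    rw [hy, hf.bilinear.smul_right, inv_mul_cancel₀ hy₀]
  clear_value y
  by_cases hva : sympForm 2 F v a = 0
  · have hav : sympForm 2 F a v = 0 := by rw [hf.skew, hva, neg_zero]
    by_cases hsp : a ∈ Submodule.span F {v}
    · obtain ⟨l, rfl⟩ := Submodule.mem_span_singleton.mp hsp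
      have hl : l ≠ 0 := fun h => ha (by rw [h, zero_smul])
      refine adjust (s • y) ?_ ?_ fun u h _ => ?_
      · rw [hf.bilinear.smul_right, hy1, mul_one]
      · rw [hf.bilinear.smul_left, hf.bilinear.smul_right, hy1, mul_one]
        exact mul_ne_zero hl hs
      · rw [hf.bilinear.smul_left, h, mul_zero]
    -- `v`, `a` span a totally isotropic plane
    obtain ⟨e, he1, he2⟩ : ∃ e, sympForm 2 F v e = 0 ∧ sympForm 2 F a e = 1 := by
      by_contra hc
      push Not at hc
      apply hsp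
      refine Submodule.mem_span_singleton.mpr ⟨sympForm 2 F a y, ?_⟩
      by_contra hne
      obtain ⟨x, hx⟩ := (hf.nondegenerate _ (sub_ne_zero.mpr (Ne.symm hne))).2
      set x' := x - sympForm 2 F v x • y with hx'
      have h1 : sympForm 2 F v x' = 0 := by
        rw [hx', form_sub_right hf.bilinear, hf.bilinear.smul_right, hy1, mul_one, sub_self]
      have h2 : sympForm 2 F a x' ≠ 0 := by
        intro h0
        apply hx
        rw [hx', form_sub_right hf.bilinear, hf.bilinear.smul_right] at h0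
        rw [form_sub_left hf.bilinear, hf.bilinear.smul_left]
        linear_combination h0
      refine hc ((sympForm 2 F a x')⁻¹ • x') ?_ ?_
      · rw [hf.bilinear.smul_right, h1, mul_zero]
      · rw [hf.bilinear.smul_right, inv_mul_cancel₀ h2]
    set α := Q v with hα
    set β := Q a with hβ
    -- the pairing with `a`
    obtain ⟨t, ht0, ht⟩ : ∃ t : F, t ≠ 0 ∧ (β ≠ 0 → β * s ^ 2 + t ^ 2 * α ≠ 0) := by
      classical
      letI := Fintype.ofFinite F
      obtain ⟨bad, hbad⟩ := hsqrt (β * s ^ 2 / α)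
      obtain ⟨t, ht0, ht⟩ : ∃ t : F, t ≠ 0 ∧ t ≠ bad := by
        by_contra hc
        push Not at hc
        have : (Finset.univ : Finset F) ⊆ {0, bad} := fun x _ => by
          by_cases hx : x = 0
          · simp [hx]
          · simp [hc x hx]
        have h5 := Finset.card_le_card this
        have h6 := Finset.card_le_two (a := (0 : F)) (b := bad)
        rw [Finset.card_univ, ← Nat.card_eq_fintype_card] at h5
        omega
      refine ⟨t, ht0, fun hb0 h0 => ?_⟩
      rcases eq_or_ne α 0 with ha0 | ha0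
      · rw [ha0, mul_zero, add_zero, mul_eq_zero, pow_eq_zero_iff two_ne_zero] at h0
        exact h0.elim hb0 hs
      · apply ht
        apply (bijective_frobenius F 2).1
        rw [frobenius_def, frobenius_def, hbad]
        field_simp
        exact (CharTwo.add_eq_zero.mp h0).symm
    -- vectors `z₁ + x v + y a`
    set z₁ := s • y + (t - s * sympForm 2 F a y) • e with hz₁
    have hz1v : sympForm 2 F v z₁ = s := by
      rw [hz₁, hf.bilinear.add_right, hf.bilinear.smul_right, hf.bilinear.smul_right, hy1, he1]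
      ring
    have hz1a : sympForm 2 F a z₁ = t := by
      rw [hz₁, hf.bilinear.add_right, hf.bilinear.smul_right, hf.bilinear.smul_right, he2]
      ring
    clear_value z₁
    have hval : ∀ x w : F, Q (z₁ + (x • v + w • a)) =
        Q z₁ + (x ^ 2 * α + w ^ 2 * β) + (x * s + w * t) := by
      intro x w
      rw [Q_add hQ hpol, Q_add hQ hpol (x • v), hQ.smul, hQ.smul, hf.bilinear.add_right,
        hf.bilinear.smul_right, hf.bilinear.smul_right, hf.bilinear.smul_left,
        hf.bilinear.smul_right, hva, hf.skew z₁ v, hf.skew z₁ a, hz1v, hz1a, CharTwo.neg_eq,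
        CharTwo.neg_eq]
      ring
    -- a direction on which the quadratic part vanishes
    obtain ⟨x₀, w₀, hq, hl⟩ : ∃ x w : F, x ^ 2 * α + w ^ 2 * β = 0 ∧ x * s + w * t ≠ 0 := by
      rcases eq_or_ne β 0 with hb0 | hb0
      · exact ⟨0, 1, by rw [hb0]; ring, by simpa using ht0⟩
      · obtain ⟨w, hw⟩ := hsqrt (α / β)
        refine ⟨1, w, ?_, fun h0 => ht hb0 ?_⟩
        · rw [hw, div_mul_cancel₀ _ hb0, one_pow, one_mul, CharTwo.add_self_eq_zero]
        · have h2 : (2 : F) = 0 := CharTwo.two_eq_zero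
          have e1 : w * t = s := by
            rw [← CharTwo.add_eq_zero]; linear_combination h0
          rw [← e1, mul_pow, hw]
          field_simp
          linear_combination (t ^ 2 * α) * h2
    set μ := (γ - Q z₁) / (x₀ * s + w₀ * t) with hμ
    refine ⟨z₁ + ((μ * x₀) • v + (μ * w₀) • a), ?_, ?_, ?_⟩
    · rw [hf.bilinear.add_right, hf.bilinear.add_right, hf.bilinear.smul_right,
        hf.bilinear.smul_right, hva, hf.alternating, hz1v]
      ring
    · rw [hf.bilinear.add_right, hf.bilinear.add_right, hf.bilinear.smul_right,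
        hf.bilinear.smul_right, hav, hf.alternating, hz1a]
      simpa using ht0
    · rw [hval]
      linear_combination μ ^ 2 * hq + div_mul_cancel₀ (γ - Q z₁) hl
  · -- `v`, `a` span a hyperbolic plane
    refine adjust ((s / sympForm 2 F v a) • a + (1 : F) • v) ?_ ?_ ?_
    · rw [hf.bilinear.add_right, hf.bilinear.smul_right, hf.bilinear.smul_right, hf.alternating,
        div_mul_cancel₀ _ hva]
      ring
    · rw [hf.bilinear.add_right, hf.bilinear.smul_right, hf.bilinear.smul_right, hf.alternating,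
        hf.skew a v]
      simpa using hva
    · intro u h1 h2
      rw [hf.bilinear.add_left, hf.bilinear.smul_left, hf.bilinear.smul_left, h1, mul_zero,
        add_zero, mul_eq_zero] at h2
      exact h2.resolve_left (div_ne_zero hs hva)

theorem main [Finite F] [CharP F 2] (h4 : 4 ≤ Nat.card F) {M : Subgroup (GL (Fin 2 ⊕ Fin 2) F)}
    (hHM : Geo.quadSimilarityGroup Q ⊓ spGL 2 F ≤ M) {g : GL (Fin 2 ⊕ Fin 2) F} (hg : g ∈ M)
    (hgi : g ∈ spGL 2 F) (hgn : g ∉ Geo.quadSimilarityGroup Q) : spGL 2 F ≤ M := by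
  have hf := isSymplecticForm_sympForm (F := F) 2
  set gi : Matrix (Fin 2 ⊕ Fin 2) (Fin 2 ⊕ Fin 2) F := ((g⁻¹ : GL (Fin 2 ⊕ Fin 2) F) : Matrix (Fin 2 ⊕ Fin 2) (Fin 2 ⊕ Fin 2) F)
    with hgi'
  let L : (Fin 2 ⊕ Fin 2 → F) →ₗ[F] F :=
    { toFun := fun x => (frobeniusEquiv F 2).symm (Q (gi *ᵥ x) + Q x)
      map_add' := fun x y => by
        rw [← map_add]
        congr 1
        have h1 := mem_isom.mp (inv_mem hgi : g⁻¹ ∈ isom (sympForm 2 F)) x y
        rw [mulVec_add, Q_add hQ hpol, Q_add hQ hpol x y, h1]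
        linear_combination add_self_zero (F := F) ((sympForm 2 F) x y)
      map_smul' := fun c x => by
        rw [mulVec_smul, hQ.smul, hQ.smul, ← mul_add, map_mul, RingHom.id_apply, smul_eq_mul]
        congr 1
        exact (frobeniusEquiv F 2).symm_apply_eq.mpr (by rw [frobeniusEquiv_apply, frobenius_def]) }
  obtain ⟨a, ha⟩ := exists_rep hf.bilinear hf.nondegenerate
    (fun i => L (Pi.single i 1))
  have hLa : ∀ x, (sympForm 2 F) x a = L x := fun x => by
    rw [← rep_dot hf.bilinear, ha]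
    conv_rhs => rw [pi_eq_sum_univ' x]
    simp only [map_sum, map_smul, smul_eq_mul, dotProduct, mul_comm]
  have hQ' : ∀ x, Q (gi *ᵥ x) = Q x + (sympForm 2 F) x a ^ 2 := fun x => by
    rw [hLa]
    show _ = _ + (frobeniusEquiv F 2).symm (Q (gi *ᵥ x) + Q x) ^ 2
    rw [← frobenius_def, ← frobeniusEquiv_apply, RingEquiv.apply_symm_apply]
    linear_combination -(add_self_zero (F := F) (Q x))
  have ha0 : a ≠ 0 := fun h => hgn ⟨1, fun x => by
    have h1 := hQ' ((g : Matrix (Fin 2 ⊕ Fin 2) (Fin 2 ⊕ Fin 2) F) *ᵥ x)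
    rw [hgi', inv_mulVec_mulVec, h, form_zero_right hf.bilinear] at h1
    simpa using h1.symm⟩
  refine isom_le_of_st_mem hf fun v c => ?_
  by_cases hv : v = 0
  · rw [st, hv, tv_zero_left]; exact one_mem M
  by_cases hc : c = 0
  · rw [st, hc, zero_smul, tv_zero_right]; exact one_mem M
  obtain ⟨s, hs⟩ := (bijective_frobenius F 2).2 (c⁻¹ + Q v)
  rw [frobenius_def] at hs
  by_cases hs0 : s = 0
  · rw [hs0, zero_pow two_ne_zero, eq_comm, CharTwo.add_eq_zero, inv_eq_iff_eq_inv] at hs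
    rw [hs]
    by_cases hQv : Q v = 0
    · exact absurd (by rw [hs, hQv, _root_.inv_zero]) hc
    exact hHM (st_mem_isometry hQ hpol hQv)
  obtain ⟨z, hz1, hz2, hz3⟩ := exists_vector hQ hpol h4 hv ha0 hs0 (Q a)
  -- the transvection carrying `a` to `z`
  have hQaz : Q (a + z) = (sympForm 2 F) a z := by
    rw [Q_add hQ hpol, hz3, add_self_zero, zero_add]
  set h := st (sympForm 2 F) (a + z) (Q (a + z))⁻¹ with hh
  have hhmem := st_mem_isometry hQ hpol (v := a + z) (by rw [hQaz]; exact hz2)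
  rw [← hh] at hhmem
  have hha : (h : Matrix (Fin 2 ⊕ Fin 2) (Fin 2 ⊕ Fin 2) F) *ᵥ a = z := by
    rw [hh, st_mulVec hf, hQaz, hf.bilinear.add_right, hf.alternating, zero_add,
      inv_mul_cancel₀ hz2, one_smul, ← add_assoc]
    funext i
    simp [add_self_zero]
  obtain ⟨d, hd⟩ := hhmem.1
  set hi : Matrix (Fin 2 ⊕ Fin 2) (Fin 2 ⊕ Fin 2) F := ((h⁻¹ : GL (Fin 2 ⊕ Fin 2) F) : Matrix (Fin 2 ⊕ Fin 2) (Fin 2 ⊕ Fin 2) F)
  have hQh : ∀ x, Q (hi *ᵥ x) = Q x := by
    intro x
    have h2 : ∀ y, Q ((h : Matrix (Fin 2 ⊕ Fin 2) (Fin 2 ⊕ Fin 2) F) *ᵥ y) = Q y := fun y => by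
      rw [hh, Q_st hQ hpol, inv_mul_cancel₀ (by rw [hQaz]; exact hz2), add_self_zero (1 : F)]
      simp
    conv_rhs => rw [← mulVec_inv_mulVec h x, h2]
  set k := h * g with hk
  have hki : k ∈ isom (sympForm 2 F) := mul_mem (st_mem_isom hf _ _) hgi
  set u := ((k⁻¹ : GL (Fin 2 ⊕ Fin 2) F) : Matrix (Fin 2 ⊕ Fin 2) (Fin 2 ⊕ Fin 2) F) *ᵥ v with hu
  have hQu : Q u = c⁻¹ := by
    have h1 : (sympForm 2 F) (hi *ᵥ v) a = (sympForm 2 F) v z := by
      rw [← hha]
      conv_rhs => rw [← mulVec_inv_mulVec h v, mem_isom.mp (st_mem_isom hf _ _ : h ∈ isom (sympForm 2 F))]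
    rw [hu, hk, _root_.mul_inv_rev, Units.val_mul, ← mulVec_mulVec, hQ', hQh, h1, hz1, hs]
    linear_combination add_self_zero (F := F) (Q v)
  have hmem := hHM (st_mem_isometry hQ hpol (v := u) (by rw [hQu]; exact inv_ne_zero hc))
  have hkM : k ∈ M := mul_mem (hHM hhmem) hg
  have := mul_mem (mul_mem hkM hmem) (inv_mem hkM)
  rwa [st_conj hf hki, hQu, inv_inv, hu, mulVec_inv_mulVec] at this



/-- The isometry group of a quadratic form with polar form `f` is maximal. -/
theorem quad_maximal [Finite F] [CharP F 2] (h4 : 4 ≤ Nat.card F) :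
    Geo.IsMaximalIn (spGL 2 F) (Geo.quadSimilarityGroup Q ⊓ spGL 2 F) := by
  have hf := isSymplecticForm_sympForm (F := F) 2
  refine isMaximalIn_of inf_le_right ?_ fun M hHM hMK g hg hgH =>
    main hQ hpol h4 hHM hg (hMK hg) fun h => hgH ⟨h, hMK hg⟩
  -- a symplectic transvection which is not a similarity of `Q`
  let e : Fin 2 ⊕ Fin 2 → F := Pi.single (Sum.inl 0) 1
  have he : e ≠ 0 := by simp [e]
  obtain ⟨v, hv1, -, hv3⟩ := exists_vector hQ hpol h4 he he one_ne_zero (0 : F)
  have hv0 : v ≠ 0 := fun h => by simp [h, form_zero_right hf.bilinear] at hv1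
  refine ⟨st (sympForm 2 F) v 1, st_mem_isom hf _ _, fun hmem => ?_⟩
  obtain ⟨c, hc⟩ := hmem.1
  have h1 := hc e
  rw [Q_st hQ hpol, hv3, hv1] at h1
  have h2 := hc v
  obtain ⟨w, hw⟩ := (hf.nondegenerate v hv0).2
  have hpolc : sympForm 2 F v w = (c : F) * sympForm 2 F v w := by
    have e1 := Q_add hQ hpol ((st (sympForm 2 F) v 1 : Matrix (Fin 2 ⊕ Fin 2) (Fin 2 ⊕ Fin 2) F) *ᵥ v)
      ((st (sympForm 2 F) v 1 : Matrix (Fin 2 ⊕ Fin 2) (Fin 2 ⊕ Fin 2) F) *ᵥ w)
    rw [← mulVec_add, hc, hc, hc, mem_isom.mp (st_mem_isom hf v 1) v w, Q_add hQ hpol] at e1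
    linear_combination -e1
  have hc1 : (c : F) = 1 := (mul_eq_right₀ hw).mp hpolc.symm
  rw [hc1] at h1
  simp at h1


end Cfsg.Agent.Sp4Geo
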