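import Cfsg.Agent.Sp4Geo.SubfieldMain

/-!
The subfield groups are maximal in `Sp(4, 2^k)` (helper98).
-/

set_option autoImplicit false

namespace Cfsg.Agent.Sp4Geo

open Matrix Cfsg.Agent.MaxSub

section

variable {ι : Type} [Fintype ι] [DecidableEq ι] {F : Type*} [Field F] [CharP F 2]
variable {f : (ι → F) → (ι → F) → F} {R : AddSubgroup (ι → F)} {F₀ : Subfield F}
variable (hf : Geo.IsSymplecticForm f) (hcard : Fintype.card ι = 4)
  (hsmul : ∀ d ∈ F₀, ∀ v ∈ R, d • v ∈ R) (hval : ∀ u ∈ R, ∀ v ∈ R, f u v ∈ F₀)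
include hf hcard hsmul hval

/-- Rational frames exist when the rational vectors span. -/
theorem exists_frame_of_span (hsp : Submodule.span F (R : Set (ι → F)) = ⊤) {v : ι → F} (hv : v ∈ R) (hv0 : v ≠ 0) :
    ∃ c c' v' : ι → F, IsFrame f R c c' v v' := by
  have hnd : ∀ u : ι → F, u ≠ 0 → ∃ x ∈ R, f u x ≠ 0 := fun u hu => by
    by_contra hc
    push Not at hc
    obtain ⟨x, hx⟩ := (hf.nondegenerate u hu).2
    have hle : Submodule.span F (R : Set (ι → F)) ≤ LinearMap.ker (rmap hf.bilinear u) :=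
      Submodule.span_le.mpr fun y hy => hc y hy
    exact hx (hle (hsp ▸ Submodule.mem_top : x ∈ _))
  obtain ⟨x, hx, hvx⟩ := hnd _ hv0
  set v' := (f v x)⁻¹ • x with hv'
  have hv'R : v' ∈ R := hsmul _ (inv_mem (hval _ hv _ hx)) _ hx
  have hvv : f v v' = 1 := by rw [hv', hf.bilinear.smul_right, inv_mul_cancel₀ hvx]
  have hv'v : f v' v = 1 := by rw [form_comm hf, hvv]
  clear_value v'
  -- projection to the orthogonal of the plane of `v`, `v'`
  set π : (ι → F) → (ι → F) := fun y => y + f y v' • v + f y v • v' with hπ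
  have hπR : ∀ y ∈ R, π y ∈ R := fun y hy =>
    add_mem (add_mem hy (hsmul _ (hval _ hy _ hv'R) _ hv)) (hsmul _ (hval _ hy _ hv) _ hv'R)
  have hπv : ∀ y, f (π y) v = 0 ∧ f (π y) v' = 0 := fun y => by
    refine ⟨?_, ?_⟩ <;> simp only [hπ, hf.bilinear.add_left, hf.bilinear.smul_left, hvv, hv'v,
      hf.alternating, mul_one, mul_zero, add_zero, CharTwo.add_self_eq_zero]
  obtain ⟨y, hy, hy0⟩ : ∃ y ∈ R, π y ≠ 0 := by
    by_contra hc
    push Not at hc
    -- four independent vectors in a plane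
    have hle : (⊤ : Submodule F (ι → F)) ≤ Submodule.span F ({v, v'} : Set (ι → F)) := by
      intro u _
      have hmem : ∀ y ∈ R, y ∈ Submodule.span F ({v, v'} : Set (ι → F)) := fun y hy => by
        refine Submodule.mem_span_pair.mpr ⟨f y v', f y v, ?_⟩
        have h := hc y hy
        simp only [hπ] at h
        rw [add_assoc] at h
        funext i
        have h' := congrFun h i
        simp only [Pi.add_apply, Pi.smul_apply, Pi.zero_apply, smul_eq_mul] at h' ⊢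
        exact (CharTwo.add_eq_zero.mp h').symm
      exact Submodule.span_le.mpr hmem (hsp ▸ Submodule.mem_top : u ∈ Submodule.span F (R : Set (ι → F)))
    have h1 := Submodule.finrank_mono hle
    classical
    have h2 := finrank_span_le_card (R := F) ({v, v'} : Set (ι → F))
    have h3 : ({v, v'} : Set (ι → F)).toFinset.card ≤ 2 := by
      simp only [Set.toFinset_insert, Set.toFinset_singleton]
      exact Finset.card_le_two
    simp [hcard] at h1
    omega
  set c := π y with hc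
  obtain ⟨z, hz, hcz⟩ := hnd _ hy0
  have hcz' : f c (π z) = f c z := by
    simp only [hπ, hf.bilinear.add_right, hf.bilinear.smul_right]
    rw [hc, (hπv y).1, (hπv y).2, mul_zero, mul_zero, add_zero, add_zero]
  refine ⟨c, (f c (π z))⁻¹ • π z, v', hπR _ hy, hsmul _ (inv_mem (hval _ (hπR _ hy) _ (hπR _ hz))) _
    (hπR _ hz), hv, hv'R, ?_, hvv, (hπv y).1, (hπv y).2, ?_, ?_⟩
  · rw [hf.bilinear.smul_right, inv_mul_cancel₀ (by rwa [hcz'])]
  · rw [hf.bilinear.smul_left, (hπv z).1, mul_zero]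
  · rw [hf.bilinear.smul_left, (hπv z).2, mul_zero]


end

variable {F : Type*} [Field F]

/-- The subfield groups are maximal. -/
theorem subfield_maximal [Fintype F] [CharP F 2] (F₀ : Subfield F) (r : ℕ)
    (P : Matrix.GeneralLinearGroup (Fin 2 ⊕ Fin 2) F) (ζ : F) (hr : r.Prime)
    (hq : Fintype.card F = Nat.card F₀ ^ r) (hζ : ζ ≠ 0)
    (hP : Geo.IsFormRationalStructure (sympForm 2 F) F₀ ζ P) :
    Geo.IsMaximalIn (spGL 2 F) (Geo.subfieldSubgroup F₀ P ⊓ spGL 2 F) := by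
  classical
  haveI := Fact.mk Nat.prime_two
  have hf := isSymplecticForm_sympForm (F := F) 2
  have hcard : Fintype.card (Fin 2 ⊕ Fin 2) = 4 := rfl
  have hperf : ∀ c ∈ F₀, ∃ e ∈ F₀, e ^ 2 = c := by
    intro c hc
    have hinj : Function.Injective (fun e : F₀ => e ^ 2) := fun e e' h =>
      Subtype.ext ((bijective_frobenius F 2).1
        (by simpa [frobenius_def] using congrArg Subtype.val h))
    obtain ⟨e, he⟩ := (Finite.injective_iff_surjective.mp hinj) ⟨c, hc⟩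
    exact ⟨e, e.2, by simpa using congrArg Subtype.val he⟩
  have hq₀ : 2 ≤ Nat.card F₀ := Finite.one_lt_card
  have hq' : Nat.card F = Nat.card F₀ ^ r := by rw [Nat.card_eq_fintype_card]; exact hq
  have htop : ∀ T : Subfield F, F₀ ≤ T → T = F₀ ∨ T = ⊤ := by
    intro T hT
    letI : Algebra F₀ T := (Subfield.inclusion hT).toAlgebra
    haveI : IsScalarTower F₀ T F := IsScalarTower.of_algebraMap_eq fun x => rfl
    have hF : Module.finrank F₀ F = r := by
      have := Module.natCard_eq_pow_finrank (K := F₀) (V := F)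
      rw [hq'] at this
      exact (Nat.pow_right_injective hq₀ this).symm
    have hmul := Module.finrank_mul_finrank F₀ T F
    rw [hF] at hmul
    rcases hr.eq_one_or_self_of_dvd _ ⟨_, hmul.symm⟩ with h1 | h1
    · left
      refine le_antisymm (fun x hx => ?_) hT
      obtain ⟨c, hc⟩ := (finrank_eq_one_iff_of_nonzero' (1 : T) one_ne_zero).1 h1 ⟨x, hx⟩
      have := congrArg Subtype.val hc
      rw [Algebra.smul_def] at this
      simp at this
      rw [← this]; exact c.2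
    · right
      rw [h1] at hmul
      have h2 : Module.finrank T F = 1 := by
        have := hr.pos
        exact Nat.eq_of_mul_eq_mul_left this (by rw [hmul, mul_one])
      refine eq_top_iff.2 fun x _ => ?_
      obtain ⟨c, hc⟩ := (finrank_eq_one_iff_of_nonzero' (1 : F) one_ne_zero).1 h2 x
      rw [← hc, Algebra.smul_def]
      simp
      exact c.2
  obtain ⟨s, hs⟩ := (bijective_frobenius F 2).2 ζ
  rw [frobenius_def] at hs
  have hs0 : s ≠ 0 := fun h => hζ (by rw [← hs, h, zero_pow two_ne_zero])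
  -- the rational vectors
  let R : AddSubgroup (Fin 2 ⊕ Fin 2 → F) :=
    { carrier := {v | ∀ i, (((P⁻¹ : GL (Fin 2 ⊕ Fin 2) F) : Matrix (Fin 2 ⊕ Fin 2) (Fin 2 ⊕ Fin 2) F) *ᵥ v) i / s ∈ F₀}
      zero_mem' := fun i => by simp
      add_mem' := fun {x y} hx hy i => by
        rw [mulVec_add, Pi.add_apply, add_div]; exact add_mem (hx i) (hy i)
      neg_mem' := fun {x} hx i => by
        rw [mulVec_neg, Pi.neg_apply, neg_div]; exact neg_mem (hx i) }
  have hsmul : ∀ d ∈ F₀, ∀ v ∈ R, d • v ∈ R := fun d hd v hv i => by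
    rw [mulVec_smul, Pi.smul_apply, smul_eq_mul, mul_div_assoc]; exact mul_mem hd (hv i)
  have hR : ∀ u : Fin 2 ⊕ Fin 2 → F, (∀ i, u i ∈ F₀) →
      (P : Matrix (Fin 2 ⊕ Fin 2) (Fin 2 ⊕ Fin 2) F) *ᵥ (s • u) ∈ R := fun u hu i => by
    rw [inv_mulVec_mulVec, Pi.smul_apply, smul_eq_mul, mul_div_cancel_left₀ _ hs0]; exact hu i
  have hRep : ∀ v ∈ R, ∃ u : Fin 2 ⊕ Fin 2 → F, (∀ i, u i ∈ F₀) ∧
      v = (P : Matrix (Fin 2 ⊕ Fin 2) (Fin 2 ⊕ Fin 2) F) *ᵥ (s • u) := fun v hv => by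
    refine ⟨fun i => (((P⁻¹ : GL (Fin 2 ⊕ Fin 2) F) : Matrix (Fin 2 ⊕ Fin 2) (Fin 2 ⊕ Fin 2) F) *ᵥ v) i / s, hv, ?_⟩
    rw [show s • (fun i => (((P⁻¹ : GL (Fin 2 ⊕ Fin 2) F) : Matrix (Fin 2 ⊕ Fin 2) (Fin 2 ⊕ Fin 2) F) *ᵥ v) i / s) = ((P⁻¹ : GL (Fin 2 ⊕ Fin 2) F) : Matrix (Fin 2 ⊕ Fin 2) (Fin 2 ⊕ Fin 2) F) *ᵥ v from
      funext fun i => mul_div_cancel₀ _ hs0, mulVec_inv_mulVec]
  have hval : ∀ u ∈ R, ∀ v ∈ R, sympForm 2 F u v ∈ F₀ := by
    intro x hx y hy
    obtain ⟨u, hu, rfl⟩ := hRep x hx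
    obtain ⟨v, hv, rfl⟩ := hRep y hy
    rw [mulVec_smul, mulVec_smul, hf.bilinear.smul_left, hf.bilinear.smul_right, ← mul_assoc, ← sq,
      hs]
    exact hP u v hu hv
  have hsp : Submodule.span F (R : Set (Fin 2 ⊕ Fin 2 → F)) = ⊤ := by
    refine eq_top_iff.mpr fun v _ => ?_
    have hv := mulVec_inv_mulVec P v
    rw [← hv, pi_eq_sum_univ' (((P⁻¹ : GL (Fin 2 ⊕ Fin 2) F) : Matrix (Fin 2 ⊕ Fin 2) (Fin 2 ⊕ Fin 2) F) *ᵥ v), mulVec_sum]
    refine Submodule.sum_mem _ fun i _ => ?_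
    rw [mulVec_smul]
    refine Submodule.smul_mem _ _ ?_
    have h1 : (P : Matrix (Fin 2 ⊕ Fin 2) (Fin 2 ⊕ Fin 2) F) *ᵥ (s • Pi.single i (1 : F)) ∈ R :=
      hR _ fun j => by
        rcases eq_or_ne j i with rfl | h
        · rw [Pi.single_eq_same]; exact one_mem _
        · rw [Pi.single_eq_of_ne h]; exact zero_mem _
    have := Submodule.smul_mem _ s⁻¹ (Submodule.subset_span (R := F) h1)
    rwa [← mulVec_smul, smul_smul, inv_mul_cancel₀ hs0, one_smul] at this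
  obtain ⟨v₀, hv₀, hv₀0⟩ : ∃ v ∈ R, v ≠ 0 := by
    by_contra hc
    push Not at hc
    have : Submodule.span F (R : Set (Fin 2 ⊕ Fin 2 → F)) = ⊥ := Submodule.span_eq_bot.mpr hc
    rw [hsp] at this
    exact top_ne_bot this
  obtain ⟨a, a', b', hF⟩ := exists_frame_of_span hf hcard hsmul hval hsp hv₀ hv₀0
  -- membership in the subfield group
  have hmem : ∀ g : GL (Fin 2 ⊕ Fin 2) F, g ∈ spGL 2 F →
      (∀ v ∈ R, (g : Matrix (Fin 2 ⊕ Fin 2) (Fin 2 ⊕ Fin 2) F) *ᵥ v ∈ R) →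
      g ∈ Geo.subfieldSubgroup F₀ P ⊓ spGL 2 F := by
    intro g hgi hg
    refine ⟨?_, hgi⟩
    set B := P⁻¹ * g * P with hB
    have hBent : ∀ i j, (B : Matrix (Fin 2 ⊕ Fin 2) (Fin 2 ⊕ Fin 2) F) i j ∈ F₀ := by
      intro i j
      have h1 := hg _ (hR (Pi.single j 1) fun k => by
        rcases eq_or_ne k j with rfl | h
        · rw [Pi.single_eq_same]; exact one_mem _
        · rw [Pi.single_eq_of_ne h]; exact zero_mem _) i
      rwa [mulVec_mulVec, mulVec_mulVec, ← Units.val_mul, ← Units.val_mul, ← hB,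
        mulVec_smul, Pi.smul_apply, mulVec_single_one, Matrix.col_apply, smul_eq_mul,
        mul_div_cancel_left₀ _ hs0] at h1
    let B₀ : Matrix (Fin 2 ⊕ Fin 2) (Fin 2 ⊕ Fin 2) F₀ := fun i j => ⟨_, hBent i j⟩
    have hdet : F₀.subtype B₀.det = (B : Matrix (Fin 2 ⊕ Fin 2) (Fin 2 ⊕ Fin 2) F).det := by
      rw [RingHom.map_det]; rfl
    have hu : IsUnit B₀ := by
      rw [Matrix.isUnit_iff_isUnit_det, isUnit_iff_ne_zero]
      intro h0
      rw [h0, map_zero] at hdet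
      exact ((Matrix.isUnit_iff_isUnit_det _).mp B.isUnit).ne_zero hdet.symm
    refine ⟨B, Subgroup.mem_sup_left ⟨hu.unit, Units.ext ?_⟩, by simp [hB, mul_assoc]⟩
    ext i j
    rfl
  have hst : ∀ v ∈ R, ∀ d ∈ F₀,
      st (sympForm 2 F) v d ∈ Geo.subfieldSubgroup F₀ P ⊓ spGL 2 F := fun v hv d hd =>
    hmem _ (st_mem_isom hf v d) fun x hx => by
      rw [st_mulVec hf]
      exact add_mem hx (hsmul _ (mul_mem hd (hval x hx v hv)) v hv)
  refine isMaximalIn_of inf_le_right ?_ fun M hHM hMK g hg hgH => ?_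
  · -- a transvection with irrational parameter
    obtain ⟨t, ht⟩ : ∃ t : F, t ∉ F₀ := by
      by_contra hall
      push Not at hall
      have : Nat.card F ≤ Nat.card F₀ := Nat.card_le_card_of_injective
        (fun x => (⟨x, hall x⟩ : F₀)) fun x y h => congrArg Subtype.val h
      rw [hq'] at this
      have h2 : Nat.card F₀ ^ 1 < Nat.card F₀ ^ r := Nat.pow_lt_pow_right hq₀ hr.one_lt
      rw [pow_one] at h2
      omega
    refine ⟨st (sympForm 2 F) a t, st_mem_isom hf a t, fun hm => ?_⟩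
    obtain ⟨y, hy, hyg⟩ := hm.1
    haveI := Geo.scalars_normal (ι := Fin 2 ⊕ Fin 2) (F := F)
    obtain ⟨B, ⟨B₀, rfl⟩, z, hz, rfl⟩ := Subgroup.mem_sup_of_normal_right.1 hy
    obtain ⟨c, hc⟩ := (Geo.mem_scalars_iff z).1 hz
    have hB : ∀ v ∈ R, (c : F)⁻¹ • ((st (sympForm 2 F) a t : Matrix (Fin 2 ⊕ Fin 2) (Fin 2 ⊕ Fin 2) F) *ᵥ v) ∈ R := by
      intro v hv
      obtain ⟨u, hu, rfl⟩ := hRep v hv
      rw [← hyg]
      change (c : F)⁻¹ • (((P * (_ * z) * P⁻¹ : GL (Fin 2 ⊕ Fin 2) F) : Matrix (Fin 2 ⊕ Fin 2) (Fin 2 ⊕ Fin 2) F) *ᵥ _) ∈ R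
      rw [Units.val_mul, Units.val_mul, Units.val_mul, hc, Matrix.mul_smul, Matrix.mul_one,
        ← mulVec_mulVec, inv_mulVec_mulVec, ← mulVec_mulVec, smul_mulVec,
        mulVec_smul _ (c : F), smul_smul, inv_mul_cancel₀ c.ne_zero, one_smul, mulVec_smul]
      refine hR _ fun i => ?_
      rw [Matrix.mulVec, dotProduct]
      exact sum_mem fun j _ => mul_mem (B₀.1 i j).2 (hu j)
    have h1 := hB a hF.ma
    rw [st_mulVec hf, hf.alternating, mul_zero, zero_smul, add_zero] at h1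
    have h2 : (c : F)⁻¹ ∈ F₀ := by
      have := hval _ h1 a' hF.ma'
      rwa [hf.bilinear.smul_left, hF.aa, mul_one] at this
    have h3 := hsmul _ (inv_mem h2) _ (hB a' hF.ma')
    rw [inv_inv, smul_smul, mul_inv_cancel₀ c.ne_zero, one_smul] at h3
    have := hval _ h3 a' hF.ma'
    rw [st_mulVec hf, hf.bilinear.add_left, hf.bilinear.smul_left, hf.alternating, hF.aa,
      (hF.form_swap hf).1, zero_add, mul_one, mul_one] at this
    exact ht this
  · by_contra hcon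
    have hM : ∀ v ∈ R, ∀ d ∈ F₀, st (sympForm 2 F) v d ∈ M := fun v hv d hd => hHM (hst v hv d hd)
    have hA : ∀ v ∈ R, v ≠ 0 → ∀ t, st (sympForm 2 F) v t ∈ M → t ∈ F₀ := fun v hv hv0 t ht => by
      by_contra htF
      exact hcon (full_of_param hf hcard hsmul hval hM htop hF hv hv0 htF ht)
    exact hgH (hmem g (hMK hg) fun v hv =>
      image_mem hf hsmul hM hA hperf hval hcard hF hg (hMK hg) hv)

end Cfsg.Agent.Sp4Geo
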