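import Cfsg.Agent.MaxSub.Alt

/-!
Short root elements of a symplectic group in characteristic two (helper98).
-/

set_option autoImplicit false

namespace Cfsg.Agent.Sp4Geo

open Matrix Cfsg.Agent.MaxSub

variable {ι : Type} [Fintype ι] [DecidableEq ι] {F : Type*} [Field F]
variable {f : (ι → F) → (ι → F) → F}

/-- The short root element `x ↦ x + k (f(x,b) a + f(x,a) b)` of an orthogonal pair, written with
transvections. -/
noncomputable def sh (f : (ι → F) → (ι → F) → F) (a b : ι → F) (k : F) : GL ι F :=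
  st f (a + k • b) 1 * st f b (k ^ 2) * st f a 1

variable [CharP F 2] (hf : Geo.IsSymplecticForm f)
include hf

theorem form_comm (x y : ι → F) : f x y = f y x := by
  rw [hf.skew x y, CharTwo.neg_eq]

theorem sh_mulVec {a b : ι → F} (hab : f a b = 0) (k : F) (x : ι → F) :
    (sh f a b k : Matrix ι ι F) *ᵥ x = x + (k * f x b) • a + (k * f x a) • b := by
  have h2 : (2 : F) = 0 := CharTwo.two_eq_zero
  have hba : f b a = 0 := by rw [form_comm hf, hab]
  rw [sh, Units.val_mul, Units.val_mul, ← mulVec_mulVec, ← mulVec_mulVec, st_mulVec hf,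
    st_mulVec hf, st_mulVec hf]
  simp only [hf.bilinear.add_left, hf.bilinear.add_right, hf.bilinear.smul_left,
    hf.bilinear.smul_right, hf.alternating, hab, hba]
  funext i
  simp only [Pi.add_apply, Pi.smul_apply, smul_eq_mul]
  ring_nf
  simp only [h2, mul_zero, zero_mul, add_zero, zero_add]

theorem sh_mem_isom (a b : ι → F) (k : F) : sh f a b k ∈ isom f :=
  mul_mem (mul_mem (st_mem_isom hf _ _) (st_mem_isom hf _ _)) (st_mem_isom hf _ _)

theorem sh_conj {g : GL ι F} (hg : g ∈ isom f) (a b : ι → F) (k : F) :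
    g * sh f a b k * g⁻¹ = sh f ((g : Matrix ι ι F) *ᵥ a) ((g : Matrix ι ι F) *ᵥ b) k := by
  have h : ∀ x y z : GL ι F, g * (x * y * z) * g⁻¹ = g * x * g⁻¹ * (g * y * g⁻¹) * (g * z * g⁻¹) :=
    fun x y z => by group
  rw [sh, h, st_conj hf hg, st_conj hf hg, st_conj hf hg, mulVec_add, mulVec_smul, sh]

theorem st_inv (v : ι → F) (c : F) : (st f v c)⁻¹ = st f v c := by
  rw [st, tv_inv (rep_dot_self hf v c), ← neg_smul, CharTwo.neg_eq]

theorem st_conj_apply {g : GL ι F} {M : Subgroup (GL ι F)} (hg : g ∈ M) (hgi : g ∈ isom f)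
    {v w : ι → F} {c : F} (h : st f v c ∈ M) (hw : (g : Matrix ι ι F) *ᵥ v = w) :
    st f w c ∈ M :=
  hw ▸ st_conj hf hgi v c ▸ mul_mem (mul_mem hg h) (inv_mem hg)

theorem sh_conj_apply {g : GL ι F} {M : Subgroup (GL ι F)} (hg : g ∈ M) (hgi : g ∈ isom f)
    {a b a' b' : ι → F} {k : F} (h : sh f a b k ∈ M) (ha : (g : Matrix ι ι F) *ᵥ a = a')
    (hb : (g : Matrix ι ι F) *ᵥ b = b') : sh f a' b' k ∈ M :=
  ha ▸ hb ▸ sh_conj hf hgi a b k ▸ mul_mem (mul_mem hg h) (inv_mem hg)

theorem st_mul_st (v : ι → F) (c d : F) : st f v c * st f v d = st f v (c + d) := by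
  refine gl_ext fun x => ?_
  rw [Units.val_mul, ← mulVec_mulVec, st_mulVec hf, st_mulVec hf, st_mulVec hf,
    hf.bilinear.add_left, hf.bilinear.smul_left, hf.alternating]
  module

theorem st_smul (a : F) (v : ι → F) (c : F) : st f (a • v) c = st f v (a ^ 2 * c) := by
  refine gl_ext fun x => ?_
  rw [st_mulVec hf, st_mulVec hf, hf.bilinear.smul_right, smul_smul]
  ring_nf

theorem st_add {a b : ι → F} (hab : f a b = 0) (k d : F) :
    st f (a + k • b) d = st f a d * (st f b (k ^ 2 * d) * sh f a b (k * d)) := by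
  have hba : f b a = 0 := by rw [form_comm hf, hab]
  refine gl_ext fun x => ?_
  simp only [Units.val_mul, ← mulVec_mulVec, st_mulVec hf, sh_mulVec hf hab,
    hf.bilinear.add_left, hf.bilinear.add_right, hf.bilinear.smul_left, hf.bilinear.smul_right,
    hf.alternating, hab, hba]
  module

theorem sh_comm {a b : ι → F} (hab : f a b = 0) (k : F) : sh f a b k = sh f b a k := by
  refine gl_ext fun x => ?_
  rw [sh_mulVec hf hab, sh_mulVec hf (by rw [form_comm hf, hab])]
  module

theorem sh_mul_sh {a b : ι → F} (hab : f a b = 0) (k l : F) :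
    sh f a b k * sh f a b l = sh f a b (k + l) := by
  have hba : f b a = 0 := by rw [form_comm hf, hab]
  refine gl_ext fun x => ?_
  simp only [Units.val_mul, ← mulVec_mulVec, sh_mulVec hf hab,
    hf.bilinear.add_left, hf.bilinear.smul_left, hf.alternating, hab, hba]
  module

theorem sh_self_inv {a b : ι → F} (hab : f a b = 0) (k : F) : (sh f a b k)⁻¹ = sh f a b k := by
  refine inv_eq_of_mul_eq_one_left ?_
  rw [sh_mul_sh hf hab, CharTwo.add_self_eq_zero]
  refine gl_ext fun x => ?_
  simp [sh_mulVec hf hab]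

end Cfsg.Agent.Sp4Geo
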