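import Cfsg.Agent.Sp4Geo.Elem
import Cfsg.Agent.MaxSub.Orth

/-!
The normaliser of a self-adjoint quadratic extension field is maximal in `Sp(4, 2^k)` (helper98).
-/

set_option autoImplicit false

namespace Cfsg.Agent.Sp4Geo

open Matrix Cfsg.Agent.MaxSub

variable {ι : Type} [Fintype ι] [DecidableEq ι] {F : Type*} [Field F] [CharP F 2]
variable {f : (ι → F) → (ι → F) → F}

/-- A generator of a quadratic extension field, self-adjoint for `f`. -/
structure QuadGen (f : (ι → F) → (ι → F) → F) (w : Matrix ι ι F) (τ ν : F) : Prop where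
  sq : ∀ x, w *ᵥ (w *ᵥ x) = τ • (w *ᵥ x) + ν • x
  irred : ∀ t : F, t ^ 2 + τ * t + ν ≠ 0
  adj : ∀ x y, f (w *ᵥ x) y = f x (w *ᵥ y)
  alt : ∀ x, f (w *ᵥ x) x = 0

/-- Root elements commuting with the extension field. -/
noncomputable def kU (f : (ι → F) → (ι → F) → F) (w : Matrix ι ι F) (τ ν : F) (v : ι → F) (s t : F) :
    GL ι F :=
  st f v (s * τ + t * ν) * st f (w *ᵥ v) t * sh f v (w *ᵥ v) s

variable {w : Matrix ι ι F} {τ ν : F}

/-- The line over the extension field through `v`. -/
def kLine (w : Matrix ι ι F) (v : ι → F) : Submodule F (ι → F) := Submodule.span F {v, w *ᵥ v}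

variable (hf : Geo.IsSymplecticForm f) (hw : QuadGen f w τ ν)
include hf hw

theorem form_v_wv (v : ι → F) : f v (w *ᵥ v) = 0 := by rw [form_comm hf, hw.alt]

theorem kU_mulVec (v x : ι → F) (s t : F) :
    (kU f w τ ν v s t : Matrix ι ι F) *ᵥ x =
      x + ((s * τ + t * ν) * f x v + s * f x (w *ᵥ v)) • v +
        (t * f x (w *ᵥ v) + s * f x v) • (w *ᵥ v) := by
  have h1 := form_v_wv hf hw v
  have h2 : f (w *ᵥ v) v = 0 := hw.alt v
  simp only [kU, Units.val_mul, ← mulVec_mulVec, st_mulVec hf, sh_mulVec hf h1,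
    hf.bilinear.add_left, hf.bilinear.smul_left, hf.alternating, h1, h2]
  module

theorem kU_mem_isom (v : ι → F) (s t : F) : kU f w τ ν v s t ∈ isom f :=
  mul_mem (mul_mem (st_mem_isom hf _ _) (st_mem_isom hf _ _)) (sh_mem_isom hf _ _ _)

theorem kU_comm (v : ι → F) (s t : F) (x : ι → F) :
    (kU f w τ ν v s t : Matrix ι ι F) *ᵥ (w *ᵥ x) =
      w *ᵥ ((kU f w τ ν v s t : Matrix ι ι F) *ᵥ x) := by
  have h2 : (2 : F) = 0 := CharTwo.two_eq_zero
  rw [kU_mulVec hf hw, kU_mulVec hf hw, mulVec_add, mulVec_add, mulVec_smul, mulVec_smul, hw.sq,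
    hw.adj x v, hw.adj x (w *ᵥ v), hw.sq, hf.bilinear.add_right, hf.bilinear.smul_right,
    hf.bilinear.smul_right]
  funext i
  simp only [Pi.add_apply, Pi.smul_apply, smul_eq_mul]
  ring_nf
  simp only [h2, mul_zero, zero_mul, add_zero, zero_add]

/-- The group generated by the root elements is transitive on non-zero vectors. -/
theorem exists_kU_move {M : Subgroup (GL ι F)} (hM : ∀ v s t, kU f w τ ν v s t ∈ M) {u z : ι → F}
    (hu : u ≠ 0) (hz : z ≠ 0) :
    ∃ g ∈ M, g ∈ isom f ∧ (∀ x, (g : Matrix ι ι F) *ᵥ (w *ᵥ x) = w *ᵥ ((g : Matrix ι ι F) *ᵥ x)) ∧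
      (g : Matrix ι ι F) *ᵥ u = z := by
  have h2 : (2 : F) = 0 := CharTwo.two_eq_zero
  have step : ∀ u z : ι → F, f u z ≠ 0 →
      ∃ g ∈ M, g ∈ isom f ∧
        (∀ x, (g : Matrix ι ι F) *ᵥ (w *ᵥ x) = w *ᵥ ((g : Matrix ι ι F) *ᵥ x)) ∧
        (g : Matrix ι ι F) *ᵥ u = z := by
    intro u z hne
    set φ := f u (u + z) with hφ
    set ψ := f u (w *ᵥ (u + z)) with hψ
    have hφ0 : φ ≠ 0 := by rwa [hφ, hf.bilinear.add_right, hf.alternating, zero_add]
    set D := τ * φ * ψ + ψ ^ 2 + ν * φ ^ 2 with hD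
    have hD0 : D ≠ 0 := fun h => hw.irred (ψ / φ) (by
      field_simp
      linear_combination h)
    refine ⟨_, hM (u + z) (ψ / D) (φ / D), kU_mem_isom hf hw _ _ _, kU_comm hf hw _ _ _, ?_⟩
    rw [kU_mulVec hf hw, ← hφ, ← hψ]
    have e1 : (ψ / D * τ + φ / D * ν) * φ + ψ / D * ψ = 1 := by
      field_simp
      linear_combination (norm := ring_nf) -hD
    have e2 : φ / D * ψ + ψ / D * φ = 0 := by
      rw [div_mul_eq_mul_div, div_mul_eq_mul_div, mul_comm φ ψ, CharTwo.add_self_eq_zero]
    rw [e1, e2, one_smul, zero_smul, add_zero, ← add_assoc]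
    funext i
    simp [CharTwo.add_self_eq_zero]
  obtain ⟨m, -, h1, h3⟩ := exists_form_ne_zero_ne_zero hf (W := ⊤)
    (a := u) (b := z) (by simpa using (hf.nondegenerate u hu).2)
    (by simpa using (hf.nondegenerate z hz).1)
  obtain ⟨g, hg, hgi, hgc, hgu⟩ := step u m h1
  obtain ⟨g', hg', hgi', hgc', hgu'⟩ := step m z h3
  exact ⟨g' * g, mul_mem hg' hg, mul_mem hgi' hgi,
    fun x => by simp only [Units.val_mul, ← mulVec_mulVec, hgc, hgc'],
    by rw [Units.val_mul, ← mulVec_mulVec, hgu, hgu']⟩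

theorem self_mem_kLine (v : ι → F) : v ∈ kLine w v := Submodule.subset_span (by simp)

theorem indep_pair {v : ι → F} (hv : v ≠ 0) : LinearIndependent F ![v, w *ᵥ v] := by
  rw [LinearIndependent.pair_iff' hv]
  intro a ha
  have h := hw.sq v
  rw [← ha, mulVec_smul, ← ha, smul_smul, smul_smul, ← add_smul] at h
  have h' : (a * a + (τ * a + ν)) • v = 0 := by
    rw [add_smul, h, ← add_smul, CharTwo.add_self_eq_zero, zero_smul]
  exact hw.irred a (by linear_combination (smul_eq_zero.mp h').resolve_right hv)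

variable [Finite F] (hcard : Fintype.card ι = 4) (h4 : 4 ≤ Nat.card F)
include hcard h4

theorem kLine_eq_orth {v : ι → F} (hv : v ≠ 0) :
    orth hf.bilinear (kLine w v) = kLine w v := by
  have h1 : Module.finrank F (kLine w v) = 2 := by
    have := finrank_span_eq_card (indep_pair hf hw hv)
    rw [Matrix.range_cons, Matrix.range_cons, Matrix.range_empty, Set.union_empty,
      Set.singleton_union, Fintype.card_fin] at this
    exact this
  have h2 := finrank_orth hf.bilinear hf.nondegenerate (kLine w v)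
  refine (Submodule.eq_of_le_of_finrank_eq ?_ (by omega)).symm
  rw [kLine, Submodule.span_le]
  intro a ha
  refine mem_orth.mpr fun b hb => ?_
  obtain ⟨c, d, rfl⟩ := Submodule.mem_span_pair.mp hb
  rw [hf.bilinear.add_right, hf.bilinear.smul_right, hf.bilinear.smul_right]
  rcases ha with rfl | rfl
  · rw [hf.alternating, form_v_wv hf hw]; ring
  · rw [hf.alternating, hw.alt]; ring

/-- Something fixing `v` and moving its field line yields all transvections. -/
theorem full_of_move {M : Subgroup (GL ι F)} (hM : ∀ v s t, kU f w τ ν v s t ∈ M) {h : GL ι F}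
    (hh : h ∈ M) (hhi : h ∈ isom f) {v : ι → F} (hv : v ≠ 0)
    (hfix : (h : Matrix ι ι F) *ᵥ v = v)
    (hout : (h : Matrix ι ι F) *ᵥ (w *ᵥ v) ∉ kLine w v) : isom f ≤ M := by
  have h2 : (2 : F) = 0 := CharTwo.two_eq_zero
  have hvw := form_v_wv hf hw v
  have hwv : f (w *ᵥ v) v = 0 := hw.alt v
  set y := (h : Matrix ι ι F) *ᵥ (w *ᵥ v) with hy
  have hvy : f v y = 0 := by
    rw [hy, ← hvw, ← mem_isom.mp hhi v (w *ᵥ v), hfix]
  have hyv : f y v = 0 := by rw [form_comm hf, hvy]
  set d := y + w *ᵥ v with hd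
  have hvd : f v d = 0 := by rw [hd, hf.bilinear.add_right, hvy, hvw, add_zero]
  have hdv : f d v = 0 := by rw [form_comm hf, hvd]
  set lam := f (w *ᵥ v) d with hlam
  have hlam0 : lam ≠ 0 := by
    intro h0
    have hd' : d ∈ kLine w v := by
      rw [← kLine_eq_orth hf hw hcard h4 hv]
      refine mem_orth.mpr fun b hb => ?_
      obtain ⟨c, e, rfl⟩ := Submodule.mem_span_pair.mp hb
      rw [hf.bilinear.add_right, hf.bilinear.smul_right, hf.bilinear.smul_right, hdv,
        form_comm hf d, ← hlam, h0]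
      ring
    refine hout ?_
    have := sub_mem hd' (show w *ᵥ v ∈ kLine w v from Submodule.subset_span (by simp))
    simpa [hd] using this
  -- short root elements towards `d`
  have hS : ∀ s, st f v (s ^ 2 * lam) * sh f v d s ∈ M := by
    intro s
    have h1 : st f v (s * τ) * sh f v y s ∈ M := by
      have := mul_mem (mul_mem hh (hM v s 0)) (inv_mem hh)
      convert this using 1
      have hk : kU f w τ ν v s 0 = st f v (s * τ) * sh f v (w *ᵥ v) s := by
        refine gl_ext fun x => ?_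
        simp only [kU_mulVec hf hw, Units.val_mul, ← mulVec_mulVec, st_mulVec hf,
          sh_mulVec hf hvw, hf.bilinear.add_left, hf.bilinear.smul_left, hf.alternating, hwv]
        module
      rw [hk, show h * (st f v (s * τ) * sh f v (w *ᵥ v) s) * h⁻¹ =
        h * st f v (s * τ) * h⁻¹ * (h * sh f v (w *ᵥ v) s * h⁻¹) by group,
        st_conj hf hhi, sh_conj hf hhi, hfix]
    convert mul_mem h1 (hM v s 0) using 1
    refine gl_ext fun x => ?_
    simp only [kU_mulVec hf hw, Units.val_mul, ← mulVec_mulVec, st_mulVec hf, sh_mulVec hf hvy,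
      sh_mulVec hf hvd, hf.bilinear.add_left, hf.bilinear.smul_left, hf.alternating, hyv, hwv, hdv,
      hvy]
    rw [hlam, hd]
    simp only [hf.bilinear.add_right, hf.alternating]
    funext i
    simp only [Pi.add_apply, Pi.smul_apply, smul_eq_mul]
    ring_nf
    simp only [h2, mul_zero, zero_mul, add_zero, zero_add]
  -- long root elements
  have hT : ∀ l : F, st f v (l ^ 2 + l * τ) ∈ M := by
    intro l
    set g := st f v ((l / lam) ^ 2 * lam) * sh f v d (l / lam) with hg
    have hgi : g ∈ isom f := mul_mem (st_mem_isom hf _ _) (sh_mem_isom hf _ _ _)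
    have hg1 : (g : Matrix ι ι F) *ᵥ (w *ᵥ v) = w *ᵥ v + l • v := by
      rw [hg, Units.val_mul, ← mulVec_mulVec, sh_mulVec hf hvd, ← hlam, hwv,
        div_mul_cancel₀ _ hlam0, mul_zero, zero_smul, add_zero, st_mulVec hf,
        hf.bilinear.add_left, hf.bilinear.smul_left, hf.alternating, hwv, mul_zero, add_zero,
        mul_zero, zero_smul, add_zero]
    have hg2 : (g : Matrix ι ι F) *ᵥ v = v := by
      rw [hg, Units.val_mul, ← mulVec_mulVec, sh_mulVec hf hvd, hvd, hf.alternating, mul_zero,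
        zero_smul, zero_smul, add_zero, add_zero, st_mulVec hf, hf.alternating, mul_zero, zero_smul,
        add_zero]
    have hk : kU f w τ ν v 0 1 = st f v ν * st f (w *ᵥ v) 1 := by
      refine gl_ext fun x => ?_
      simp only [kU_mulVec hf hw, Units.val_mul, ← mulVec_mulVec, st_mulVec hf,
        hf.bilinear.add_left, hf.bilinear.smul_left, hwv]
      module
    have h1 : st f v ν * st f (w *ᵥ v + l • v) 1 ∈ M := by
      have := mul_mem (mul_mem (hS (l / lam)) (hM v 0 1)) (inv_mem (hS (l / lam)))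
      rw [← hg, hk, show g * (st f v ν * st f (w *ᵥ v) 1) * g⁻¹ =
        g * st f v ν * g⁻¹ * (g * st f (w *ᵥ v) 1 * g⁻¹) by group,
        st_conj hf hgi, st_conj hf hgi, hg1, hg2] at this
      exact this
    have := mul_mem (mul_mem h1 (hM v 0 1)) (hM v l 0)
    convert this using 1
    refine gl_ext fun x => ?_
    simp only [kU_mulVec hf hw, Units.val_mul, ← mulVec_mulVec, st_mulVec hf,
      hf.bilinear.add_left, hf.bilinear.add_right, hf.bilinear.smul_left, hf.bilinear.smul_right,
      hf.alternating, hvw, hwv]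
    funext i
    simp only [Pi.add_apply, Pi.smul_apply, smul_eq_mul]
    ring_nf
    simp only [h2, mul_zero, zero_mul, add_zero, zero_add]
  obtain ⟨l, hl0, hlτ⟩ : ∃ l : F, l ≠ 0 ∧ l ≠ τ := by
    classical
    letI := Fintype.ofFinite F
    by_contra hc
    push Not at hc
    have : (Finset.univ : Finset F) ⊆ {0, τ} := fun x _ => by
      by_cases hx : x = 0
      · simp [hx]
      · simp [hc x hx]
    have h5 := Finset.card_le_card this
    have h6 := Finset.card_le_two (a := (0 : F)) (b := τ)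
    rw [Finset.card_univ, ← Nat.card_eq_fintype_card] at h5
    omega
  set μ := l ^ 2 + l * τ with hμ
  have hμ0 : μ ≠ 0 := by
    intro h0
    rw [hμ, sq, ← mul_add] at h0
    exact hlτ (CharTwo.add_eq_zero.mp ((mul_eq_zero.mp h0).resolve_left hl0))
  have hμM : ∀ z : ι → F, z ≠ 0 → st f z μ ∈ M := fun z hz => by
    obtain ⟨k, hk, hki, -, hkv⟩ := exists_kU_move hf hw hM hv hz
    exact st_conj_apply hf hk hki (hT l) hkv
  refine isom_le_of_st_mem hf fun z c => ?_
  by_cases hz : z = 0
  · rw [st, hz, tv_zero_left]; exact one_mem M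
  by_cases hc : c = 0
  · rw [st, hc, zero_smul, tv_zero_right]; exact one_mem M
  haveI := Fact.mk Nat.prime_two
  obtain ⟨σ, hσ⟩ := (bijective_frobenius F 2).2 (c / μ)
  rw [frobenius_def] at hσ
  have hσ0 : σ ≠ 0 := fun h => by
    rw [h, zero_pow two_ne_zero] at hσ
    exact div_ne_zero hc hμ0 hσ.symm
  have := hμM (σ • z) (smul_ne_zero hσ0 hz)
  rwa [st_smul hf, hσ, div_mul_cancel₀ _ hμ0] at this

end Cfsg.Agent.Sp4Geo
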