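import Cfsg.Agent.Sp4Geo.Elem

/-!
Overgroups of a symplectic group over a subfield, inside `Sp(4, 2^k)` (helper98).

`R` is the set of rational vectors, `M` contains the rational transvections.
-/

set_option autoImplicit false

namespace Cfsg.Agent.Sp4Geo

open Matrix Cfsg.Agent.MaxSub

variable {ι : Type} [Fintype ι] [DecidableEq ι] {F : Type*} [Field F] [CharP F 2]
variable {f : (ι → F) → (ι → F) → F}

/-- A symplectic frame made of rational vectors. -/
structure IsFrame (f : (ι → F) → (ι → F) → F) (R : AddSubgroup (ι → F)) (a a' b b' : ι → F) :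
    Prop where
  ma : a ∈ R
  ma' : a' ∈ R
  mb : b ∈ R
  mb' : b' ∈ R
  aa : f a a' = 1
  bb : f b b' = 1
  ab : f a b = 0
  ab' : f a b' = 0
  a'b : f a' b = 0
  a'b' : f a' b' = 0

variable {R : AddSubgroup (ι → F)} {F₀ : Subfield F} {a a' b b' : ι → F}
variable (hf : Geo.IsSymplecticForm f)
include hf

theorem IsFrame.swap (hF : IsFrame f R a a' b b') : IsFrame f R a' a b b' :=
  ⟨hF.ma', hF.ma, hF.mb, hF.mb', by rw [form_comm hf, hF.aa], hF.bb, hF.a'b, hF.a'b', hF.ab,
    hF.ab'⟩

theorem IsFrame.planes (hF : IsFrame f R a a' b b') : IsFrame f R b b' a a' :=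
  ⟨hF.mb, hF.mb', hF.ma, hF.ma', hF.bb, hF.aa, by rw [form_comm hf, hF.ab],
    by rw [form_comm hf, hF.a'b], by rw [form_comm hf, hF.ab'], by rw [form_comm hf, hF.a'b']⟩

variable (hcard : Fintype.card ι = 4)
include hcard

theorem IsFrame.expand (hF : IsFrame f R a a' b b') (u : ι → F) :
    u = f u a' • a + f u a • a' + f u b' • b + f u b • b' := by
  let L : (ι → F) →ₗ[F] (Fin 4 → F) :=
    LinearMap.pi ![lmap hf.bilinear a', lmap hf.bilinear a, lmap hf.bilinear b', lmap hf.bilinear b]
  have hc := form_comm hf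
  have e1 : f a' a = 1 := by rw [hc, hF.aa]
  have e2 : f b' b = 1 := by rw [hc, hF.bb]
  have e3 : f b a = 0 := by rw [hc, hF.ab]
  have e4 : f b' a = 0 := by rw [hc, hF.ab']
  have e5 : f b a' = 0 := by rw [hc, hF.a'b]
  have e6 : f b' a' = 0 := by rw [hc, hF.a'b']
  have hL : ∀ c : Fin 4 → F, L (c 0 • a + c 1 • a' + c 2 • b + c 3 • b') = c := by
    intro c
    funext i
    fin_cases i <;>
      simp [L, hf.bilinear.add_left, hf.bilinear.smul_left, hf.alternating, hF.aa, hF.bb, hF.ab,
        hF.ab', hF.a'b, hF.a'b', e1, e2, e3, e4, e5, e6]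
  have hsur : Function.Surjective L := fun c => ⟨_, hL c⟩
  have hinj := (LinearMap.injective_iff_surjective_of_finrank_eq_finrank
    (by simp [hcard])).mpr hsur
  exact hinj (hL (L u)).symm

omit hcard in
/-- An element of the plane orthogonal to `b`. -/
theorem IsFrame.form_swap (hF : IsFrame f R a a' b b') :
    f a' a = 1 ∧ f b' b = 1 ∧ f b a = 0 ∧ f b' a = 0 ∧ f b a' = 0 ∧ f b' a' = 0 := by
  have hc := form_comm hf
  exact ⟨by rw [hc, hF.aa], by rw [hc, hF.bb], by rw [hc, hF.ab], by rw [hc, hF.ab'],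
    by rw [hc, hF.a'b], by rw [hc, hF.a'b']⟩

variable (hsmul : ∀ d ∈ F₀, ∀ v ∈ R, d • v ∈ R) (hval : ∀ u ∈ R, ∀ v ∈ R, f u v ∈ F₀)

include hsmul in
theorem mem_of_form_mem (hF : IsFrame f R a a' b b') {u : ι → F} (h1 : f u a' ∈ F₀)
    (h2 : f u a ∈ F₀) (h3 : f u b' ∈ F₀) (h4 : f u b ∈ F₀) : u ∈ R := by
  rw [hF.expand hf hcard u]
  exact add_mem (add_mem (add_mem (hsmul _ h1 _ hF.ma) (hsmul _ h2 _ hF.ma'))
    (hsmul _ h3 _ hF.mb)) (hsmul _ h4 _ hF.mb')

include hsmul in
theorem exists_rat_form_ne_zero (hF : IsFrame f R a a' b b') {u : ι → F} (hu : u ≠ 0) :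
    ∃ x ∈ R, f u x ≠ 0 := by
  by_contra hc
  push Not at hc
  refine hu ?_
  rw [hF.expand hf hcard u, hc _ hF.ma', hc _ hF.ma, hc _ hF.mb', hc _ hF.mb]
  simp

include hsmul hval in
/-- A rational non-zero vector is the third member of a rational frame. -/
theorem exists_frame (hF : IsFrame f R a a' b b') {v : ι → F} (hv : v ∈ R) (hv0 : v ≠ 0) :
    ∃ c c' v' : ι → F, IsFrame f R c c' v v' := by
  obtain ⟨x, hx, hvx⟩ := exists_rat_form_ne_zero hf hcard hsmul hF hv0
  set v' := (f v x)⁻¹ • x with hv'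
  have hv'R : v' ∈ R := hsmul _ (inv_mem (hval _ hv _ hx)) _ hx
  have hvv : f v v' = 1 := by rw [hv', hf.bilinear.smul_right, inv_mul_cancel₀ hvx]
  have hv'v : f v' v = 1 := by rw [form_comm hf, hvv]
  clear_value v'
  -- projection to the orthogonal of the plane of `v`, `v'`
  set π : (ι → F) → (ι → F) := fun y => y + f y v' • v + f y v • v' with hπ
  have hπR : ∀ y ∈ R, π y ∈ R := fun y hy =>
    add_mem (add_mem hy (hsmul _ (hval _ hy _ hv'R) _ hv)) (hsmul _ (hval _ hy _ hv) _ hv'R)
  have hπv : ∀ y, f (π y) v = 0 ∧ f (π y) v' = 0 := fun y => by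
    refine ⟨?_, ?_⟩ <;> simp only [hπ, hf.bilinear.add_left, hf.bilinear.smul_left, hvv, hv'v,
      hf.alternating, mul_one, mul_zero, add_zero, CharTwo.add_self_eq_zero]
  obtain ⟨y, hy, hy0⟩ : ∃ y ∈ R, π y ≠ 0 := by
    by_contra hc
    push Not at hc
    -- four independent vectors in a plane
    have hle : (⊤ : Submodule F (ι → F)) ≤ Submodule.span F ({v, v'} : Set (ι → F)) := by
      intro u _
      have hmem : ∀ y ∈ R, y ∈ Submodule.span F ({v, v'} : Set (ι → F)) := fun y hy => by
        refine Submodule.mem_span_pair.mpr ⟨f y v', f y v, ?_⟩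
        have h := hc y hy
        simp only [hπ] at h
        rw [add_assoc] at h
        funext i
        have h' := congrFun h i
        simp only [Pi.add_apply, Pi.smul_apply, Pi.zero_apply, smul_eq_mul] at h' ⊢
        exact (CharTwo.add_eq_zero.mp h').symm
      rw [hF.expand hf hcard u]
      exact add_mem (add_mem (add_mem (Submodule.smul_mem _ _ (hmem _ hF.ma))
        (Submodule.smul_mem _ _ (hmem _ hF.ma'))) (Submodule.smul_mem _ _ (hmem _ hF.mb)))
        (Submodule.smul_mem _ _ (hmem _ hF.mb'))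
    have h1 := Submodule.finrank_mono hle
    classical
    have h2 := finrank_span_le_card (R := F) ({v, v'} : Set (ι → F))
    have h3 : ({v, v'} : Set (ι → F)).toFinset.card ≤ 2 := by
      simp only [Set.toFinset_insert, Set.toFinset_singleton]
      exact Finset.card_le_two
    simp [hcard] at h1
    omega
  set c := π y with hc
  obtain ⟨z, hz, hcz⟩ := exists_rat_form_ne_zero hf hcard hsmul hF hy0
  have hcz' : f c (π z) = f c z := by
    simp only [hπ, hf.bilinear.add_right, hf.bilinear.smul_right]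
    rw [hc, (hπv y).1, (hπv y).2, mul_zero, mul_zero, add_zero, add_zero]
  refine ⟨c, (f c (π z))⁻¹ • π z, v', hπR _ hy, hsmul _ (inv_mem (hval _ (hπR _ hy) _ (hπR _ hz))) _
    (hπR _ hz), hv, hv'R, ?_, hvv, (hπv y).1, (hπv y).2, ?_, ?_⟩
  · rw [hf.bilinear.smul_right, inv_mul_cancel₀ (by rwa [hcz'])]
  · rw [hf.bilinear.smul_left, (hπv z).1, mul_zero]
  · rw [hf.bilinear.smul_left, (hπv z).2, mul_zero]

variable {M : Subgroup (GL ι F)} (hM : ∀ v ∈ R, ∀ d ∈ F₀, st f v d ∈ M)

include hsmul hM in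
omit hcard in
theorem sh_rat_mem {x y : ι → F} (hx : x ∈ R) (hy : y ∈ R) {k : F} (hk : k ∈ F₀) :
    sh f x y k ∈ M :=
  mul_mem (mul_mem (hM _ (add_mem hx (hsmul _ hk _ hy)) _ (one_mem _))
    (hM _ hy _ (pow_mem hk 2))) (hM _ hx _ (one_mem _))

include hsmul hval hM in
/-- The rational transvections are transitive on rational non-zero vectors. -/
theorem exists_rat_move (hF : IsFrame f R a a' b b') {u z : ι → F} (hu : u ∈ R) (hu0 : u ≠ 0)
    (hz : z ∈ R) (hz0 : z ≠ 0) :
    ∃ g ∈ M, g ∈ isom f ∧ (g : Matrix ι ι F) *ᵥ u = z := by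
  have step : ∀ u z : ι → F, u ∈ R → z ∈ R → f u z ≠ 0 →
      ∃ g ∈ M, g ∈ isom f ∧ (g : Matrix ι ι F) *ᵥ u = z := fun u z hu hz h => by
    refine ⟨st f (z - u) (f u z)⁻¹, hM _ (sub_mem hz hu) _ (inv_mem (hval _ hu _ hz)),
      st_mem_isom hf _ _, ?_⟩
    rw [st_mulVec hf, form_sub_right hf.bilinear, hf.alternating, sub_zero, inv_mul_cancel₀ h,
      one_smul, add_sub_cancel]
  obtain ⟨x, hx, hux⟩ := exists_rat_form_ne_zero hf hcard hsmul hF hu0
  obtain ⟨x', hx', hzx⟩ := exists_rat_form_ne_zero hf hcard hsmul hF hz0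
  obtain ⟨m, hm, h1, h2⟩ := exists_mem_notMem_notMem (P := R)
    (Q := (LinearMap.ker (rmap hf.bilinear u)).toAddSubgroup)
    (R := (LinearMap.ker (lmap hf.bilinear z)).toAddSubgroup)
    ⟨x, hx, by simpa using hux⟩ ⟨x', hx', by
      simp only [Submodule.mem_toAddSubgroup, LinearMap.mem_ker, lmap_apply]
      rwa [form_comm hf]⟩
  obtain ⟨g, hg, hgi, hgu⟩ := step u m hu hm (by simpa using h1)
  obtain ⟨g', hg', hgi', hgu'⟩ := step m z hm hz (by simpa using h2)
  exact ⟨g' * g, mul_mem hg' hg, mul_mem hgi' hgi,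
    by rw [Units.val_mul, ← mulVec_mulVec, hgu, hgu']⟩

include hM in
omit hcard in
/-- Splitting a conjugate of a rational transvection. -/
theorem split_mem {x y : ι → F} (hx : x ∈ R) (hxy : f x y = 0) {h : GL ι F} (hh : h ∈ M)
    (hhi : h ∈ isom f) {β : F} (himg : (h : Matrix ι ι F) *ᵥ x = x + β • y) :
    st f y (β ^ 2) * sh f x y β ∈ M := by
  have h1 := st_conj_apply hf hh hhi (hM x hx 1 (one_mem _)) himg
  rw [st_add hf hxy, mul_one, mul_one] at h1
  simpa using mul_mem (inv_mem (hM x hx 1 (one_mem _))) h1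

include hsmul hM in
omit hcard in
theorem swap_conj (hF : IsFrame f R a a' b b') :
    ∃ k ∈ M, k ∈ isom f ∧ (k : Matrix ι ι F) *ᵥ a = a' ∧ (k : Matrix ι ι F) *ᵥ a' = a ∧
      (k : Matrix ι ι F) *ᵥ b = b := by
  obtain ⟨e1, -, e3, -, e5, -⟩ := hF.form_swap hf
  have h3 : (3 : F) = 1 := by linear_combination CharTwo.two_eq_zero (R := F)
  refine ⟨st f a 1 * st f a' 1 * st f a 1, mul_mem (mul_mem (hM _ hF.ma _ (one_mem _))
    (hM _ hF.ma' _ (one_mem _))) (hM _ hF.ma _ (one_mem _)), mul_mem (mul_mem (st_mem_isom hf _ _)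
    (st_mem_isom hf _ _)) (st_mem_isom hf _ _), ?_, ?_, ?_⟩
  · simp only [Units.val_mul, ← mulVec_mulVec, st_mulVec hf, hf.bilinear.add_left,
      hf.alternating, hF.aa, e1, mul_zero, mul_one, one_mul, zero_smul, one_smul, add_zero, zero_add]
    funext i
    simp only [Pi.add_apply, Pi.smul_apply, smul_eq_mul]
    ring_nf
    simp [CharTwo.two_eq_zero, h3]
  · simp only [Units.val_mul, ← mulVec_mulVec, st_mulVec hf, hf.bilinear.add_left,
      hf.alternating, hF.aa, e1, mul_zero, mul_one, one_mul, zero_smul, one_smul, add_zero, zero_add]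
    funext i
    simp only [Pi.add_apply, Pi.smul_apply, smul_eq_mul]
    ring_nf
    simp [CharTwo.two_eq_zero, h3]
  · simp only [Units.val_mul, ← mulVec_mulVec, st_mulVec hf, e3, e5, mul_zero, zero_smul, add_zero]

include hsmul hM in
omit hcard in
theorem planes_conj (hF : IsFrame f R a a' b b') :
    ∃ k ∈ M, k ∈ isom f ∧ (k : Matrix ι ι F) *ᵥ a = b ∧ (k : Matrix ι ι F) *ᵥ b = a := by
  obtain ⟨e1, e2, e3, e4, e5, e6⟩ := hF.form_swap hf
  have h3 : (3 : F) = 1 := by linear_combination CharTwo.two_eq_zero (R := F)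
  refine ⟨sh f a' b 1 * sh f a b' 1 * sh f a' b 1,
    mul_mem (mul_mem (sh_rat_mem hf hsmul hM hF.ma' hF.mb (one_mem _))
      (sh_rat_mem hf hsmul hM hF.ma hF.mb' (one_mem _)))
      (sh_rat_mem hf hsmul hM hF.ma' hF.mb (one_mem _)),
    mul_mem (mul_mem (sh_mem_isom hf _ _ _) (sh_mem_isom hf _ _ _)) (sh_mem_isom hf _ _ _), ?_, ?_⟩
  all_goals
    simp only [Units.val_mul, ← mulVec_mulVec, sh_mulVec hf hF.a'b, sh_mulVec hf hF.ab',
      hf.bilinear.add_left, hf.bilinear.smul_left, hf.alternating, hF.aa, hF.bb, hF.ab, hF.ab',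
      hF.a'b, hF.a'b', e1, e2, e3, e4, e5, e6]
    funext i
    simp only [Pi.add_apply, Pi.smul_apply, smul_eq_mul]
    ring_nf
    simp [CharTwo.two_eq_zero, h3]

variable [Finite F] (htop : ∀ T : Subfield F, F₀ ≤ T → T = F₀ ∨ T = ⊤)

include hsmul hval hM htop in
/-- A transvection at a rational vector with irrational parameter gives everything. -/
theorem full_of_param (hF : IsFrame f R a a' b b') {x : ι → F} (hx : x ∈ R) (hx0 : x ≠ 0) {t : F}
    (ht : t ∉ F₀) (hxt : st f x t ∈ M) : isom f ≤ M := by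
  haveI := Fact.mk Nat.prime_two
  let A : AddSubgroup F :=
    { carrier := {s | ∀ v ∈ R, st f v s ∈ M}
      zero_mem' := fun v hv => hM v hv 0 (zero_mem _)
      add_mem' := fun {r s} hr hs v hv => st_mul_st hf v r s ▸ mul_mem (hr v hv) (hs v hv)
      neg_mem' := fun {r} hr v hv => by rw [CharTwo.neg_eq]; exact hr v hv }
  have hA : ∀ {v : ι → F}, v ∈ R → v ≠ 0 → ∀ {s}, st f v s ∈ M → s ∈ A := by
    intro v hv hv0 s hs w hw
    rcases eq_or_ne w 0 with rfl | hw0
    · rw [st, tv_zero_left]; exact one_mem M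
    · obtain ⟨g, hg, hgi, hgv⟩ := exists_rat_move hf hcard hsmul hval hM hF hv hv0 hw hw0
      exact st_conj_apply hf hg hgi hs hgv
  have hne : ∀ {c c' d d' : ι → F}, IsFrame f R c c' d d' → d ≠ 0 := fun h h0 => by
    have := h.bb
    rw [h0, form_zero_left hf.bilinear] at this
    exact zero_ne_one this
  -- short root elements with parameters in `A`
  have hB : ∀ {c c' d d' : ι → F}, IsFrame f R c c' d d' → ∀ s ∈ A, sh f c d s ∈ M := by
    intro c c' d d' h s hs
    obtain ⟨e1, -, -, -, -, -⟩ := h.form_swap hf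
    have himg : (sh f c' d 1 : Matrix ι ι F) *ᵥ c = c + (1 : F) • d := by
      rw [sh_mulVec hf h.a'b, h.ab, h.aa]; simp
    have h1 := st_conj_apply hf (sh_rat_mem hf hsmul hM h.ma' h.mb (one_mem _))
      (sh_mem_isom hf _ _ _) (hs c h.ma) himg
    rw [st_add hf h.ab, one_pow, one_mul] at h1
    simpa using mul_mem (inv_mem (hs d h.mb)) (mul_mem (inv_mem (hs c h.ma)) h1)
  have hsq : ∀ s ∈ A, s ^ 2 ∈ A := by
    intro s hs
    refine hA hF.mb (hne hF) ?_
    have himg : (sh f a b s : Matrix ι ι F) *ᵥ a' = a' + s • b := by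
      rw [sh_mulVec hf hF.ab, hF.a'b, (hF.form_swap hf).1]; simp
    have h1 := split_mem hf hM hF.ma' hF.a'b (hB hF s hs) (sh_mem_isom hf _ _ _) himg
    simpa using mul_mem h1 (inv_mem (hB (hF.swap hf) s hs))
  have hprod : ∀ s ∈ A, ∀ r ∈ A, r ^ 2 * (s + s ^ 2) ∈ A := by
    intro s hs r hr
    refine hA hF.mb (hne hF) ?_
    have hX : ∀ {c c' : ι → F}, IsFrame f R c c' b b' →
        st f b (r ^ 2 * s) * sh f c b (r * s) ∈ M := by
      intro c c' h
      have himg : (sh f c' b r : Matrix ι ι F) *ᵥ c = c + r • b := by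
        rw [sh_mulVec hf h.a'b, h.ab, h.aa]; simp
      have h1 := st_conj_apply hf (hB (h.swap hf) r hr) (sh_mem_isom hf _ _ _) (hs c h.ma) himg
      rw [st_add hf h.ab] at h1
      simpa using mul_mem (inv_mem (hs c h.ma)) h1
    have himg : ((st f b (r ^ 2 * s) * sh f a b (r * s) : GL ι F) : Matrix ι ι F) *ᵥ a' =
        a' + (r * s) • b := by
      rw [Units.val_mul, ← mulVec_mulVec, sh_mulVec hf hF.ab, hF.a'b, (hF.form_swap hf).1,
        mul_zero, zero_smul, add_zero, mul_one, st_mulVec hf, hf.bilinear.add_left,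
        hf.bilinear.smul_left, hf.alternating, hF.a'b]
      simp
    have h1 := split_mem hf hM hF.ma' hF.a'b (hX hF)
      (mul_mem (st_mem_isom hf _ _) (sh_mem_isom hf _ _ _)) himg
    have h2 := mul_mem (hX (hF.swap hf)) (inv_mem h1)
    convert h2 using 1
    rw [_root_.mul_inv_rev, sh_self_inv hf hF.a'b, st_inv hf]
    refine gl_ext fun y => ?_
    simp only [Units.val_mul, ← mulVec_mulVec, sh_mulVec hf hF.a'b, st_mulVec hf,
      hf.bilinear.add_left, hf.bilinear.smul_left, hf.alternating, hF.a'b, (hF.form_swap hf).2.2.2.2.1]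
    funext i
    simp only [Pi.add_apply, Pi.smul_apply, smul_eq_mul]
    ring_nf
    simp [CharTwo.two_eq_zero]
  -- `A` is everything
  have hsurj : ∀ s ∈ A, ∃ r ∈ A, r ^ 2 = s := by
    intro s hs
    have hinj : Function.Injective (fun r : A => (⟨r.1 ^ 2, hsq r r.2⟩ : A)) := fun r r' h =>
      Subtype.ext ((bijective_frobenius F 2).1
        (by simpa [frobenius_def] using congrArg Subtype.val h))
    obtain ⟨r, hr⟩ := (Finite.injective_iff_surjective.mp hinj) ⟨s, hs⟩
    exact ⟨r, r.2, congrArg Subtype.val hr⟩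
  let S : Subring F :=
    { carrier := {c | ∀ s ∈ A, c * s ∈ A}
      one_mem' := fun s hs => by rwa [one_mul]
      mul_mem' := fun {c d} hc hd s hs => by rw [mul_assoc]; exact hc _ (hd _ hs)
      zero_mem' := fun s hs => by rw [zero_mul]; exact zero_mem A
      add_mem' := fun {c d} hc hd s hs => by rw [add_mul]; exact add_mem (hc _ hs) (hd _ hs)
      neg_mem' := fun {c} hc s hs => by rw [neg_mul]; exact neg_mem (hc _ hs) }
  let T : Subfield F :=
    { S with
      inv_mem' := fun c hc => by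
        letI := Fintype.ofFinite F
        rcases eq_or_ne c 0 with rfl | h0
        · rw [_root_.inv_zero]; exact S.zero_mem
        · have h : c ^ (Fintype.card F - 2) = c⁻¹ := by
            have hq := Fintype.one_lt_card (α := F)
            apply eq_inv_of_mul_eq_one_left
            rw [← pow_succ, show Fintype.card F - 2 + 1 = Fintype.card F - 1 by omega,
              FiniteField.pow_card_sub_one_eq_one c h0]
          rw [← h]
          exact S.pow_mem hc _ }
  have hperf : ∀ c ∈ F₀, ∃ e ∈ F₀, e ^ 2 = c := by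
    intro c hc
    have hinj : Function.Injective (fun e : F₀ => e ^ 2) := fun e e' h =>
      Subtype.ext ((bijective_frobenius F 2).1
        (by simpa [frobenius_def] using congrArg Subtype.val h))
    obtain ⟨e, he⟩ := (Finite.injective_iff_surjective.mp hinj) ⟨c, hc⟩
    exact ⟨e, e.2, by simpa using congrArg Subtype.val he⟩
  have hF₀T : F₀ ≤ T := fun c hc s hs v hv => by
    obtain ⟨e, he, rfl⟩ := hperf c hc
    rw [← st_smul hf]
    exact hs _ (hsmul _ he _ hv)
  have h1A : (1 : F) ∈ A := fun v hv => hM v hv 1 (one_mem _)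
  have htA : t ∈ A := hA hx hx0 hxt
  have hkey : ∀ s ∈ A, s + s ^ 2 ∈ T := fun s hs r hr => by
    obtain ⟨r', hr', rfl⟩ := hsurj r hr
    rw [mul_comm]
    exact hprod s hs r' hr'
  have hall : ∀ s : F, s ∈ A := by
    rcases htop T hF₀T with hT | hT
    · -- only the field with four elements remains
      have h2 : (2 : F) = 0 := CharTwo.two_eq_zero
      have hF0 : ∀ l ∈ F₀, l = 0 ∨ l = 1 := by
        intro l hl
        by_contra hc
        push Not at hc
        have hlA : l * t ∈ A := hF₀T hl t htA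
        have e1 : l * t + (l * t) ^ 2 ∈ F₀ := hT ▸ hkey _ hlA
        have e2 : l ^ 2 * (t + t ^ 2) ∈ F₀ := mul_mem (pow_mem hl 2) (hT ▸ hkey t htA)
        have hne : l + l ^ 2 ≠ 0 := fun h => by
          rw [sq, ← mul_one_add, mul_eq_zero] at h
          exact hc.2 (CharTwo.add_eq_zero.mp (h.resolve_left hc.1)).symm
        refine ht ?_
        have := div_mem (add_mem e1 e2) (add_mem hl (pow_mem hl 2) : l + l ^ 2 ∈ F₀)
        convert this using 1
        rw [eq_div_iff hne]
        linear_combination -(l ^ 2 * t ^ 2) * h2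
      have htsq : t + t ^ 2 = 1 := by
        rcases hF0 _ (hT ▸ hkey t htA) with h | h
        · exfalso
          rw [sq, ← mul_one_add, mul_eq_zero] at h
          rcases h with h | h
          · exact ht (h ▸ zero_mem _)
          · exact ht ((CharTwo.add_eq_zero.mp h) ▸ one_mem _)
        · exact h
      -- the roots of `X⁴ - X`
      let U : Subfield F :=
        { carrier := {z | z ^ 4 = z}
          one_mem' := one_pow 4
          zero_mem' := zero_pow (by norm_num)
          mul_mem' := fun {y z} hy hz => by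
            simp only [Set.mem_setOf_eq] at hy hz ⊢; rw [mul_pow, hy, hz]
          add_mem' := fun {y z} hy hz => by
            simp only [Set.mem_setOf_eq] at hy hz ⊢
            rw [show (y + z) ^ 4 = ((y + z) ^ 2) ^ 2 by ring, CharTwo.add_sq, CharTwo.add_sq,
              ← pow_mul, ← pow_mul, hy, hz]
          neg_mem' := fun {y} hy => by simpa [CharTwo.neg_eq] using hy
          inv_mem' := fun y hy => by
            simp only [Set.mem_setOf_eq] at hy ⊢; rw [inv_pow, hy] }
      have hU : U = ⊤ := by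
        refine (htop U fun l hl => ?_).resolve_left fun h => ht ?_
        · rcases hF0 l hl with rfl | rfl
          · exact zero_mem U
          · exact one_mem U
        · rw [← h]
          show t ^ 4 = t
          linear_combination (t ^ 2 - t + 2) * htsq + (1 - 2 * t) * h2
      intro s
      have hs : s ^ 4 = s := (hU ▸ Subfield.mem_top s : s ∈ U)
      have hprod0 : s * (s + 1) * ((s + t) * (s + t + 1)) = 0 := by
        linear_combination hs + (s ^ 2 + s) * htsq +
          (s ^ 3 + s ^ 2 + t * s ^ 3 + t * s ^ 2 + s) * h2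
      rcases mul_eq_zero.mp hprod0 with h | h <;> rcases mul_eq_zero.mp h with h | h
      · exact h ▸ zero_mem A
      · exact (CharTwo.add_eq_zero.mp h) ▸ h1A
      · exact (CharTwo.add_eq_zero.mp h) ▸ htA
      · rw [add_assoc] at h
        exact (CharTwo.add_eq_zero.mp h) ▸ add_mem htA h1A
    · intro s
      have := (hT ▸ Subfield.mem_top s : s ∈ T) 1 h1A
      rwa [mul_one] at this
  -- all vectors are centres
  have hcR : ∀ v ∈ R, v ∈ centres f M := fun v hv s => hall s v hv
  have hplane : ∀ {c c' d d' : ι → F}, IsFrame f R c c' d d' →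
      ∀ p q : F, p • c + q • c' ∈ centres f M := by
    intro c c' d d' h p q
    rcases eq_or_ne p 0 with rfl | hp
    · rw [zero_smul, zero_add]; exact smul_mem_centres hf (hcR _ h.ma') q
    · have := smul_mem_centres hf
        (add_smul_mem_centres hf (hcR _ h.ma) (hcR _ h.ma') (by rw [h.aa]; exact one_ne_zero) (q / p)) p
      rwa [smul_add, smul_smul, mul_div_cancel₀ _ hp] at this
  obtain ⟨e1, e2, e3, e4, e5, e6⟩ := hF.form_swap hf
  have hne' : ∀ {c c' : ι → F}, f c c' = 1 → f c' c = 1 →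
      Geo.IsNondegenerateOn f (Submodule.span F ({c, c'} : Set (ι → F))) := by
    intro c c' h h'
    have hc : ∀ v ∈ Submodule.span F ({c, c'} : Set (ι → F)), v ≠ 0 → f v c ≠ 0 ∨ f v c' ≠ 0 := by
      intro v hv hv0
      obtain ⟨p, q, rfl⟩ := Submodule.mem_span_pair.mp hv
      by_contra hh
      push Not at hh
      rw [hf.bilinear.add_left, hf.bilinear.smul_left, hf.bilinear.smul_left, hf.alternating, h',
        hf.bilinear.add_left, hf.bilinear.smul_left, hf.bilinear.smul_left, hf.alternating, h] at hh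
      simp only [mul_zero, zero_add, mul_one, add_zero] at hh
      exact hv0 (by rw [hh.2, hh.1, zero_smul, zero_smul, add_zero])
    intro v hv hv0
    rcases hc v hv hv0 with h1 | h1
    · exact ⟨⟨c, Submodule.subset_span (by simp), by rwa [form_comm hf]⟩,
        ⟨c, Submodule.subset_span (by simp), h1⟩⟩
    · exact ⟨⟨c', Submodule.subset_span (by simp), by rwa [form_comm hf]⟩,
        ⟨c', Submodule.subset_span (by simp), h1⟩⟩
  refine isom_le_of_st_mem hf fun v => ?_
  change v ∈ centres f M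
  rw [hF.expand hf hcard v, add_assoc]
  set P := f v a' • a + f v a • a'
  set Q := f v b' • b + f v b • b'
  by_cases hP : P = 0
  · rw [hP, zero_add]; exact hplane (hF.planes hf) _ _
  by_cases hQ : Q = 0
  · rw [hQ, add_zero]; exact hplane hF _ _
  have ha0 : a ≠ 0 := fun h => by simp [h, form_zero_right hf.bilinear] at e1
  have h1 : P + b ∈ centres f M := by
    refine change_component hf (W := Submodule.span F {a, a'}) (fun w hw => ?_) (hne' hF.aa e1)
      (fun w hw => ?_) (Submodule.subset_span (by simp)) ha0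
      (Submodule.mem_span_pair.mpr ⟨_, _, rfl⟩) hP (hcR _ (add_mem hF.ma hF.mb))
    · obtain ⟨p, q, rfl⟩ := Submodule.mem_span_pair.mp hw
      exact hplane hF p q
    · obtain ⟨p, q, rfl⟩ := Submodule.mem_span_pair.mp hw
      rw [hf.bilinear.add_right, hf.bilinear.smul_right, hf.bilinear.smul_right, e3, e5]
      simp
  rw [add_comm P] at h1 ⊢
  refine change_component hf (W := Submodule.span F {b, b'}) (fun w hw => ?_) (hne' hF.bb e2)
    (fun w hw => ?_) (Submodule.subset_span (by simp)) (hne hF)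
    (Submodule.mem_span_pair.mpr ⟨_, _, rfl⟩) hQ h1
  · obtain ⟨p, q, rfl⟩ := Submodule.mem_span_pair.mp hw
    exact hplane (hF.planes hf) p q
  · obtain ⟨p, q, rfl⟩ := Submodule.mem_span_pair.mp hw
    simp only [P, hf.bilinear.add_left, hf.bilinear.smul_left, hf.bilinear.add_right,
      hf.bilinear.smul_right, hF.ab, hF.ab', hF.a'b, hF.a'b']
    ring

end Cfsg.Agent.Sp4Geo
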