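import Cfsg.Agent.Sp4Geo.Subfield

/-!
Conjugates of rational vectors are rational unless the overgroup is everything (helper98).
-/

set_option autoImplicit false

namespace Cfsg.Agent.Sp4Geo

open Matrix Cfsg.Agent.MaxSub

variable {ι : Type} [Fintype ι] [DecidableEq ι] {F : Type*} [Field F] [CharP F 2]
variable {f : (ι → F) → (ι → F) → F} {R : AddSubgroup (ι → F)} {F₀ : Subfield F}
  {a a' b b' : ι → F} {M : Subgroup (GL ι F)}
variable (hf : Geo.IsSymplecticForm f)
  (hsmul : ∀ d ∈ F₀, ∀ v ∈ R, d • v ∈ R)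
  (hM : ∀ v ∈ R, ∀ d ∈ F₀, st f v d ∈ M)
  (hA : ∀ v ∈ R, v ≠ 0 → ∀ t, st f v t ∈ M → t ∈ F₀)

/-- `u` is the centre of a conjugate of a rational transvection group. -/
def IsCentre (f : (ι → F) → (ι → F) → F) (F₀ : Subfield F) (M : Subgroup (GL ι F)) (u : ι → F) :
    Prop :=
  ∀ d ∈ F₀, st f u d ∈ M

include hf hsmul hM hA

theorem mem_of_sq (hFr : ∀ c ∈ F₀, ∃ e ∈ F₀, e ^ 2 = c) {x : F} (hx : x ^ 2 ∈ F₀) : x ∈ F₀ := by
  obtain ⟨e, he, h⟩ := hFr _ hx
  haveI := Fact.mk Nat.prime_two
  have : e = x := frobenius_inj F 2 (by simpa [frobenius_def] using h)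
  exact this ▸ he

variable (hperf : ∀ c ∈ F₀, ∃ e ∈ F₀, e ^ 2 = c)
include hperf

theorem basic_facts (hcard : Fintype.card ι = 4) (hF : IsFrame f R a a' b b') {u : ι → F} (hu : IsCentre f F₀ M u)
    (hub : f u b = 0) :
    f u a' + f u a' ^ 2 ∈ F₀ ∧
      f u a' ^ 2 + f u a' ^ 3 * f u a + f u a' ^ 4 + f u a' ^ 2 * f u a ^ 2 ∈ F₀ := by
  obtain ⟨e1, e2, e3, e4, e5, e6⟩ := hF.form_swap hf
  have hc := form_comm hf
  have hbu : f b u = 0 := by rw [hc, hub]
  have hb0 : b ≠ 0 := fun h => by simp [h, form_zero_right hf.bilinear] at e2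
  set p := f u a' with hp
  set q := f u a with hq
  have hp' : f a' u = p := by rw [hc, hp]
  have hq' : f a u = q := by rw [hc, hq]
  obtain ⟨k, hk, hki, hka, hka', hkb⟩ := swap_conj hf hsmul hM hF
  -- the element from two orthogonal centres
  have hX : st f b (p ^ 2) * sh f u b p ∈ M := by
    have himg : (sh f a' b 1 : Matrix ι ι F) *ᵥ u = u + p • b := by
      rw [sh_mulVec hf hF.a'b, hub, ← hp]; simp
    have h1 := st_conj_apply hf (sh_rat_mem hf hsmul hM hF.ma' hF.mb (one_mem _))
      (sh_mem_isom hf _ _ _) (hu 1 (one_mem _)) himg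
    rw [st_add hf hub, mul_one, mul_one] at h1
    simpa using mul_mem (inv_mem (hu 1 (one_mem _))) h1
  have hXi : st f b (p ^ 2) * sh f u b p ∈ isom f :=
    mul_mem (st_mem_isom hf _ _) (sh_mem_isom hf _ _ _)
  have himg1 : ((st f b (p ^ 2) * sh f u b p : GL ι F) : Matrix ι ι F) *ᵥ a' = a' + (p * p) • b := by
    rw [Units.val_mul, ← mulVec_mulVec, sh_mulVec hf hub, hF.a'b, hp', mul_zero, zero_smul,
      add_zero, st_mulVec hf, hf.bilinear.add_left, hf.bilinear.smul_left, hf.alternating, hF.a'b]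
    simp
  have himg2 : ((st f b (p ^ 2) * sh f u b p : GL ι F) : Matrix ι ι F) *ᵥ a = a + (p * q) • b := by
    rw [Units.val_mul, ← mulVec_mulVec, sh_mulVec hf hub, hF.ab, hq', mul_zero, zero_smul,
      add_zero, st_mulVec hf, hf.bilinear.add_left, hf.bilinear.smul_left, hf.alternating, hF.ab]
    simp
  have hW1 := split_mem hf hM hF.ma' hF.a'b hX hXi himg1
  have hW2 := split_mem hf hM hF.ma hF.ab hX hXi himg2
  have moved : ∀ {x y : ι → F} {α β : F}, (k : Matrix ι ι F) *ᵥ x = y →
      st f b α * sh f x b β ∈ M → st f b α * sh f y b β ∈ M := by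
    intro x y α β hxy h
    have := mul_mem (mul_mem hk h) (inv_mem hk)
    rwa [show k * (st f b α * sh f x b β) * k⁻¹ = k * st f b α * k⁻¹ * (k * sh f x b β * k⁻¹) by
      group, st_conj hf hki, sh_conj hf hki, hkb, hxy] at this
  have hT1 := moved hka' hW1
  have hT2 := moved hka hW2
  constructor
  · -- `p + p²`
    obtain ⟨k', hk', hki', hk'a, hk'b⟩ := planes_conj hf hsmul hM hF
    set β := p * p with hβ
    have hT1' : st f a (β ^ 2) * sh f a b β ∈ M := by
      have := mul_mem (mul_mem hk' hT1) (inv_mem hk')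
      rwa [show k' * (st f b (β ^ 2) * sh f a b β) * k'⁻¹ =
        k' * st f b (β ^ 2) * k'⁻¹ * (k' * sh f a b β * k'⁻¹) by group,
        st_conj hf hki', sh_conj hf hki', hk'a, hk'b, sh_comm hf e3] at this
    have hD : st f a (β ^ 2) * st f b (β ^ 2) ∈ M := by
      convert mul_mem hT1' (inv_mem hT1) using 1
      rw [_root_.mul_inv_rev, sh_self_inv hf hF.ab, st_inv hf]
      refine gl_ext fun x => ?_
      simp only [Units.val_mul, ← mulVec_mulVec, sh_mulVec hf hF.ab, st_mulVec hf,
        hf.bilinear.add_left, hf.bilinear.smul_left, hf.alternating, hF.ab, e3]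
      funext i
      simp only [Pi.add_apply, Pi.smul_apply, smul_eq_mul]
      ring_nf
      simp [CharTwo.two_eq_zero]
    have hg1 : (sh f a' b 1 : Matrix ι ι F) *ᵥ a = a + (1 : F) • b := by
      rw [sh_mulVec hf hF.a'b, hF.ab, hF.aa]; simp
    have hg2 : (sh f a' b 1 : Matrix ι ι F) *ᵥ b = b := by
      rw [sh_mulVec hf hF.a'b, hf.alternating, e5]; simp
    have hY : st f a (β ^ 2) * sh f a b (β ^ 2) ∈ M := by
      have := mul_mem (mul_mem (sh_rat_mem hf hsmul hM hF.ma' hF.mb (one_mem _)) hD)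
        (inv_mem (sh_rat_mem hf hsmul hM hF.ma' hF.mb (one_mem F₀)))
      rw [show sh f a' b 1 * (st f a (β ^ 2) * st f b (β ^ 2)) * (sh f a' b 1)⁻¹ =
          sh f a' b 1 * st f a (β ^ 2) * (sh f a' b 1)⁻¹ *
            (sh f a' b 1 * st f b (β ^ 2) * (sh f a' b 1)⁻¹) by group,
        st_conj hf (sh_mem_isom hf _ _ _), st_conj hf (sh_mem_isom hf _ _ _), hg1, hg2,
        st_add hf hF.ab, one_pow, one_mul] at this
      convert this using 1
      refine gl_ext fun x => ?_
      simp only [Units.val_mul, ← mulVec_mulVec, sh_mulVec hf hF.ab, st_mulVec hf,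
        hf.bilinear.add_left, hf.bilinear.smul_left, hf.alternating, hF.ab, e3]
      funext i
      simp only [Pi.add_apply, Pi.smul_apply, smul_eq_mul]
      ring_nf
      simp [CharTwo.two_eq_zero]
    set δ := β + β ^ 2 with hδ
    have hS : sh f a b δ ∈ M := by
      convert mul_mem hY (inv_mem hT1') using 1
      rw [_root_.mul_inv_rev, sh_self_inv hf hF.ab, st_inv hf]
      refine gl_ext fun x => ?_
      simp only [Units.val_mul, ← mulVec_mulVec, sh_mulVec hf hF.ab, st_mulVec hf,
        hf.bilinear.add_left, hf.bilinear.smul_left, hf.alternating, hF.ab, e3]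
      rw [hδ]
      funext i
      simp only [Pi.add_apply, Pi.smul_apply, smul_eq_mul]
      ring_nf
      simp [CharTwo.two_eq_zero]
    have himg : (sh f a b δ : Matrix ι ι F) *ᵥ a' = a' + δ • b := by
      rw [sh_mulVec hf hF.ab, hF.a'b, e1]; simp
    have h1 := split_mem hf hM hF.ma' hF.a'b hS (sh_mem_isom hf _ _ _) himg
    have h2 : st f b (δ ^ 2) ∈ M := by simpa using mul_mem (moved hka' h1) (inv_mem hS)
    have h3 := hA b hF.mb hb0 _ h2
    have h4 : δ ∈ F₀ := mem_of_sq hf hsmul hM hA hperf h3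
    refine mem_of_sq hf hsmul hM hA hperf ?_
    convert h4 using 1
    rw [hδ, hβ, CharTwo.add_sq]
    ring
  · refine hA b hF.mb hb0 _ ?_
    convert mul_mem hX (mul_mem hT1 hT2) using 1
    refine gl_ext fun x => ?_
    simp only [Units.val_mul, ← mulVec_mulVec, sh_mulVec hf hF.ab, sh_mulVec hf hF.a'b,
      sh_mulVec hf hub, st_mulVec hf, hf.bilinear.add_left, hf.bilinear.smul_left, hf.alternating,
      hF.ab, hF.a'b, e3, e5, hub, hbu, hq', hp', hF.aa, e1, ← hp, ← hq]
    have hexp : u = p • a + q • a' + f u b' • b := by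
      conv_lhs => rw [hF.expand hf hcard u, hub, zero_smul, add_zero]
    generalize f u b' = η at hexp
    clear_value p q
    subst hexp
    simp only [hf.bilinear.add_right, hf.bilinear.smul_right]
    funext i
    simp only [Pi.add_apply, Pi.smul_apply, smul_eq_mul]
    ring_nf
    simp [CharTwo.two_eq_zero, show (3 : F) = 1 by linear_combination CharTwo.two_eq_zero (R := F)]


theorem form_mem (hcard : Fintype.card ι = 4) (hF : IsFrame f R a a' b b') {u : ι → F}
    (hu : IsCentre f F₀ M u) (hub : f u b = 0) : f u a' ∈ F₀ := by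
  have h2 : (2 : F) = 0 := CharTwo.two_eq_zero
  have hfact := fun {c c' : ι → F} (hF : IsFrame f R c c' b b') (w : ι → F) (hw : IsCentre f F₀ M w)
    (hwb : f w b = 0) => basic_facts hf hsmul hM hA hperf hcard hF hw hwb
  set p := f u a' with hp
  set q := f u a with hq
  by_contra hp0
  by_cases hF0 : ∃ l ∈ F₀, l ≠ 0 ∧ l ≠ 1
  · obtain ⟨l, hl, hl0, hl1⟩ := hF0
    have hlu : IsCentre f F₀ M (l • u) := fun d hd => by
      rw [st_smul hf]; exact hu _ (mul_mem (pow_mem hl 2) hd)
    have h1 := (hfact hF (l • u) hlu (by rw [hf.bilinear.smul_left, hub, mul_zero])).1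
    rw [hf.bilinear.smul_left, ← hp] at h1
    have e1 := mul_mem (pow_mem hl 2) (hfact hF u hu hub).1
    have hne : l + l ^ 2 ≠ 0 := fun h => by
      rw [sq, ← mul_one_add, mul_eq_zero] at h
      exact hl1 (CharTwo.add_eq_zero.mp (h.resolve_left hl0)).symm
    refine hp0 ?_
    have := div_mem (add_mem h1 e1) (add_mem hl (pow_mem hl 2) : l + l ^ 2 ∈ F₀)
    convert this using 1
    rw [eq_div_iff hne, ← hp]
    linear_combination -(l ^ 2 * p ^ 2) * h2
  push Not at hF0
  have h01 : ∀ l ∈ F₀, l = 0 ∨ l = 1 := fun l hl => or_iff_not_imp_left.mpr (hF0 l hl)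
  have hpp : p + p ^ 2 = 1 := by
    rcases h01 _ (hfact hF u hu hub).1 with h | h
    · exfalso
      rw [← hp, sq, ← mul_one_add, mul_eq_zero] at h
      rcases h with h | h
      · exact hp0 (h ▸ zero_mem _)
      · exact hp0 ((CharTwo.add_eq_zero.mp h) ▸ one_mem _)
    · exact h
  have hp01 : p ∈ F₀ → False := hp0
  have hp1 : p + 1 ∈ F₀ → False := fun h => hp0 (by
    have := add_mem h (one_mem F₀)
    rwa [add_assoc, CharTwo.add_self_eq_zero, add_zero] at this)
  -- the second centre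
  have hw : IsCentre f F₀ M (a' + p • u) := by
    intro d hd
    have himg : (st f u 1 : Matrix ι ι F) *ᵥ a' = a' + p • u := by
      rw [st_mulVec hf, one_mul, hp, form_comm hf]
    exact st_conj_apply hf (hu 1 (one_mem _)) (st_mem_isom hf _ _) (hM a' hF.ma' d hd) himg
  have hwb : f (a' + p • u) b = 0 := by
    rw [hf.bilinear.add_left, hf.bilinear.smul_left, hub, hF.a'b, mul_zero, add_zero]
  have hwa' : f (a' + p • u) a' = p ^ 2 := by
    rw [hf.bilinear.add_left, hf.bilinear.smul_left, hf.alternating, ← hp, zero_add, sq]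
  have hwa : f (a' + p • u) a = 1 + p * q := by
    rw [hf.bilinear.add_left, hf.bilinear.smul_left, (hF.form_swap hf).1, ← hq]
  have hQ := (hfact hF u hu hub).2
  have hQ' := (hfact hF _ hw hwb).2
  rw [hwa', hwa] at hQ'
  rw [← hp, ← hq] at hQ
  have hp2 : p ^ 2 + p - 1 = 0 := by linear_combination hpp
  have hqq : q * (q + 1) * ((q + p) * (q + p + 1)) = 0 := by
    rcases h01 _ (hfact (hF.swap hf) u hu hub).1 with h | h
    · rw [← hq] at h
      linear_combination ((q + p) * (q + p + 1)) * h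
    · rw [← hq] at h
      have : (q + p) * (q + p + 1) = 0 := by linear_combination h + hpp + (q * p + 0) * h2 + h2
      rw [this, mul_zero]
  rcases mul_eq_zero.mp hqq with h | h <;> rcases mul_eq_zero.mp h with h | h
  · -- `q = 0`
    refine hp01 ?_
    convert hQ' using 1
    rw [h]
    linear_combination -(22 - 13 * p + 9 * p ^ 2 - 4 * p ^ 3 + 3 * p ^ 4 - p ^ 5 + p ^ 6) * hp2
      - (11 - 18 * p) * h2
  · -- `q = 1`
    refine hp1 ?_
    convert hQ using 1
    rw [CharTwo.add_eq_zero.mp h]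
    linear_combination -(3 + p ^ 2) * hp2 - (1 - 2 * p) * h2
  · -- `q = p`
    refine hp01 ?_
    convert hQ' using 1
    rw [CharTwo.add_eq_zero.mp h]
    linear_combination -(58 - 35 * p + 23 * p ^ 2 - 12 * p ^ 3 + 9 * p ^ 4 - 3 * p ^ 5 + 3 * p ^ 6)
      * hp2 - (29 - 47 * p) * h2
  · -- `q = p + 1`
    refine hp1 ?_
    convert hQ using 1
    rw [show q = p + 1 from CharTwo.add_eq_zero.mp (by rwa [add_assoc] at h)]
    linear_combination -(5 + 3 * p ^ 2) * hp2 - (2 - 3 * p) * h2

variable (hval : ∀ u ∈ R, ∀ v ∈ R, f u v ∈ F₀) (hcard : Fintype.card ι = 4)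
include hval hcard

/-- A centre orthogonal to some rational vector is rational. -/
theorem centre_mem (hF : IsFrame f R a a' b b') {v : ι → F} (hv : v ∈ R) (hv0 : v ≠ 0)
    {u : ι → F} (hu : IsCentre f F₀ M u) (huv : f u v = 0) : u ∈ R := by
  obtain ⟨c, c', v', hC⟩ := exists_frame hf hcard hsmul hval hF hv hv0
  have hp := form_mem hf hsmul hM hA hperf hcard hC hu huv
  have hq := form_mem hf hsmul hM hA hperf hcard (hC.swap hf) hu huv
  set p := f u c' with hp'
  set q := f u c with hq'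
  set η := f u v' with hη
  suffices hη0 : η ∈ F₀ from
    mem_of_form_mem hf hcard hsmul hC hp hq hη0 (huv ▸ zero_mem _)
  have hexp : u = p • c + q • c' + η • v := by
    conv_lhs => rw [hC.expand hf hcard u, huv, zero_smul, add_zero]
  obtain ⟨e1, e2, e3, e4, e5, e6⟩ := hC.form_swap hf
  by_cases hr : p = 0 ∧ q = 0
  · rw [hr.1, hr.2, zero_smul, zero_smul, zero_add, zero_add] at hexp
    have hv0' : v ≠ 0 := hv0
    have h1 := hu 1 (one_mem _)
    rw [hexp, st_smul hf, mul_one] at h1
    exact mem_of_sq hf hsmul hM hA hperf (hA v hv hv0' _ h1)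
  -- the rational vector `r`, its partner, and the centre `v' + η u`
  set r := p • c + q • c' with hrd
  obtain ⟨r', hr'R, hrr', hr'v, hr'v'⟩ :
      ∃ r' ∈ R, f r r' = 1 ∧ f v r' = 0 ∧ f v' r' = 0 := by
    by_cases hp0 : p = 0
    · have hq0 : q ≠ 0 := fun h => hr ⟨hp0, h⟩
      refine ⟨q⁻¹ • c, hsmul _ (inv_mem hq) _ hC.ma, ?_, ?_, ?_⟩
      · rw [hrd, hp0, zero_smul, zero_add, hf.bilinear.smul_left, hf.bilinear.smul_right, e1,
          mul_one, mul_inv_cancel₀ hq0]
      · rw [hf.bilinear.smul_right, e3, mul_zero]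
      · rw [hf.bilinear.smul_right, e4, mul_zero]
    · refine ⟨p⁻¹ • c', hsmul _ (inv_mem hp) _ hC.ma', ?_, ?_, ?_⟩
      · rw [hrd, hf.bilinear.add_left, hf.bilinear.smul_left, hf.bilinear.smul_left,
          hf.bilinear.smul_right, hf.bilinear.smul_right, hC.aa, hf.alternating, mul_zero, mul_zero,
          add_zero, mul_one, mul_inv_cancel₀ hp0]
      · rw [hf.bilinear.smul_right, e5, mul_zero]
      · rw [hf.bilinear.smul_right, e6, mul_zero]
  have hrR : r ∈ R := add_mem (hsmul _ hp _ hC.ma) (hsmul _ hq _ hC.ma')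
  have hG : IsFrame f R v' v r r' := ⟨hC.mb', hC.mb, hrR, hr'R, e2, hrr', by
      rw [hrd, hf.bilinear.add_right, hf.bilinear.smul_right, hf.bilinear.smul_right, e4, e6,
        mul_zero, mul_zero, add_zero], hr'v', by
      rw [hrd, hf.bilinear.add_right, hf.bilinear.smul_right, hf.bilinear.smul_right, e3, e5,
        mul_zero, mul_zero, add_zero], hr'v⟩
  have hw : IsCentre f F₀ M (v' + η • u) := by
    intro d hd
    have himg : (st f u 1 : Matrix ι ι F) *ᵥ v' = v' + η • u := by
      rw [st_mulVec hf, one_mul, hη, form_comm hf]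
    exact st_conj_apply hf (hu 1 (one_mem _)) (st_mem_isom hf _ _) (hM v' hC.mb' d hd) himg
  have hwr : f (v' + η • u) r = 0 := by
    rw [hf.bilinear.add_left, hf.bilinear.smul_left, hG.ab, zero_add, hexp,
      hf.bilinear.add_left, hf.bilinear.smul_left, hf.alternating, hG.a'b]
    simp
  have h1 := form_mem hf hsmul hM hA hperf hcard (hG.swap hf) hw hwr
  rw [hf.bilinear.add_left, hf.bilinear.smul_left, hf.alternating, zero_add, ← hη, ← sq] at h1
  exact mem_of_sq hf hsmul hM hA hperf h1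

/-- An element of the overgroup maps rational vectors to rational vectors. -/
theorem image_mem (hF : IsFrame f R a a' b b') {g : GL ι F} (hg : g ∈ M) (hgi : g ∈ isom f)
    {v : ι → F} (hv : v ∈ R) : (g : Matrix ι ι F) *ᵥ v ∈ R := by
  rcases eq_or_ne v 0 with rfl | hv0
  · rw [mulVec_zero]; exact zero_mem R
  obtain ⟨c, c', v', hC⟩ := exists_frame hf hcard hsmul hval hF hv hv0
  set u := (g : Matrix ι ι F) *ᵥ v with hu
  set u' := (g : Matrix ι ι F) *ᵥ c with hu'
  have huC : IsCentre f F₀ M u := fun d hd => st_conj_apply hf hg hgi (hM v hv d hd) rfl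
  have huu : f u' u = 0 := by rw [hu, hu', mem_isom.mp hgi, hC.ab]
  have hs : sh f u' u 1 ∈ M :=
    sh_conj_apply hf hg hgi (sh_rat_mem hf hsmul hM hC.ma hv (one_mem _)) rfl rfl
  have hc0 : c ≠ 0 := fun h => by
    have := hC.aa
    rw [h, form_zero_left hf.bilinear] at this
    exact zero_ne_one this
  set z := (sh f u' u 1 : Matrix ι ι F) *ᵥ c with hz
  have hzC : IsCentre f F₀ M z := fun d hd =>
    st_conj_apply hf hs (sh_mem_isom hf _ _ _) (hM c hC.ma d hd) rfl
  have hz' : z = c + (f c u • u' + f c u' • u) := by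
    rw [hz, sh_mulVec hf huu, one_mul, one_mul, add_assoc]
  have hzc : f z c = 0 := by
    rw [hz', hf.bilinear.add_left, hf.bilinear.add_left, hf.bilinear.smul_left,
      hf.bilinear.smul_left, hf.alternating, form_comm hf u' c, form_comm hf u c, zero_add,
      mul_comm, CharTwo.add_self_eq_zero]
  have hzR := centre_mem hf hsmul hM hA hperf hval hcard hF hC.ma hc0 hzC hzc
  set w0 := f c u • u' + f c u' • u with hw0
  have hw0R : w0 ∈ R := by
    have := sub_mem hzR hC.ma
    rwa [hz', add_sub_cancel_left] at this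
  rcases eq_or_ne w0 0 with h0 | h0
  · -- then `c` is orthogonal to `u`
    refine centre_mem hf hsmul hM hA hperf hval hcard hF hC.ma hc0 huC ?_
    rw [form_comm hf]
    by_contra hne
    have h1 : f w0 ((g : Matrix ι ι F) *ᵥ c') = 0 := by rw [h0, form_zero_left hf.bilinear]
    rw [hw0, hf.bilinear.add_left, hf.bilinear.smul_left, hf.bilinear.smul_left, hu, hu',
      mem_isom.mp hgi, mem_isom.mp hgi, hC.aa, (hC.form_swap hf).2.2.2.2.1, mul_zero, add_zero,
      mul_one] at h1
    exact hne h1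
  · refine centre_mem hf hsmul hM hA hperf hval hcard hF hw0R h0 huC ?_
    rw [hw0, hf.bilinear.add_right, hf.bilinear.smul_right, hf.bilinear.smul_right,
      form_comm hf u u', huu, hf.alternating, mul_zero, mul_zero, add_zero]

end Cfsg.Agent.Sp4Geo
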